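import Groth.Prelude.Def_Dyn
import Groth.Agent.HopfPtLib.Conv3
import Mathlib.RingTheory.HopfAlgebra.Quotient

/-!
# Dynamic method: orbits of points under a one-parameter subgroup

The conjugated orbit as a homomorphism of point groups, the coefficient maps of the orbit of the
universal point, and their grading identity.
-/

universe u

open LaurentPolynomial TensorProduct
open WithConv

namespace Groth.Agent.DynLib41

variable {k : Type u} [CommRing k] {A : Type u} [CommRing A] [HopfAlgebra k A]
variable {R S : Type u} [CommRing R] [Algebra k R] [CommRing S] [Algebra k S]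

/-- Points of an affine group form a group. -/
noncomputable scoped instance pointInv : Inv (WithConv (A →ₐ[k] R)) :=
  ⟨fun f => toConv (f.ofConv.comp (HopfAlgebra.antipodeAlgHom k A))⟩

/-- Points of an affine group form a group. -/
noncomputable scoped instance pointGroup : Group (WithConv (A →ₐ[k] R)) where
  inv_mul_cancel f := HopfPtLib.antipode_comp_convMul f.ofConv

theorem inv_ofConv (f : WithConv (A →ₐ[k] R)) :
    (f⁻¹).ofConv = f.ofConv.comp (HopfAlgebra.antipodeAlgHom k A) := rfl

/-- Post-composition as a homomorphism of point groups. -/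
noncomputable def post (φ : R →ₐ[k] S) : WithConv (A →ₐ[k] R) →* WithConv (A →ₐ[k] S) :=
  MonoidHom.mk' (fun f : WithConv (A →ₐ[k] R) => toConv (φ.comp f.ofConv)) fun f g => by
    apply WithConv.ofConv_injective
    exact AlgHom.comp_convMul_distrib φ f g

@[simp] theorem post_ofConv (φ : R →ₐ[k] S) (f : WithConv (A →ₐ[k] R)) (a : A) :
    (post φ f).ofConv a = φ (f.ofConv a) := rfl

theorem post_post {U : Type u} [CommRing U] [Algebra k U] (φ : R →ₐ[k] S) (ψ : S →ₐ[k] U)
    (f : WithConv (A →ₐ[k] R)) : post ψ (post φ f) = post (ψ.comp φ) f := rfl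

theorem post_injective {φ : R →ₐ[k] S} (h : Function.Injective φ) :
    Function.Injective (post (A := A) φ) := fun f g hfg => by
  apply WithConv.ofConv_injective
  ext a
  exact h (congrArg (fun x : WithConv (A →ₐ[k] S) => x.ofConv a) hfg)

/-- Coefficientwise map of Laurent polynomials. -/
noncomputable abbrev mapL (φ : R →ₐ[k] S) : R[T;T⁻¹] →ₐ[k] S[T;T⁻¹] :=
  AddMonoidAlgebra.mapAlgHom ℤ φ

/-- Constants. -/
noncomputable abbrev const (R : Type u) [CommRing R] [Algebra k R] : R →ₐ[k] R[T;T⁻¹] :=
  IsScalarTower.toAlgHom k R R[T;T⁻¹]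

theorem const_apply (r : R) : const (k := k) R r = LaurentPolynomial.C r := rfl

theorem mapL_comp_const (φ : R →ₐ[k] S) : (mapL φ).comp (const R) = (const S).comp φ := by
  ext r n
  simp
  split_ifs <;> simp

variable (lam : A →ₐc[k] k[T;T⁻¹])

/-- `λ` read over `R`. -/
noncomputable def Lam (R : Type u) [CommRing R] [Algebra k R] : WithConv (A →ₐ[k] R[T;T⁻¹]) :=
  toConv (Dyn.lamR k A lam R)

theorem post_mapL_Lam (φ : R →ₐ[k] S) : post (mapL φ) (Lam lam R) = Lam lam S := by
  apply WithConv.ofConv_injective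
  ext a n
  simp only [Lam, post_ofConv, Dyn.lamR, AlgHom.comp_apply, ofConv_toConv,
    AddMonoidAlgebra.coeff_mapAlgHom]
  exact φ.commutes _

/-- The conjugated orbit, as a homomorphism of point groups. -/
noncomputable def orbit (R : Type u) [CommRing R] [Algebra k R] :
    WithConv (A →ₐ[k] R) →* WithConv (A →ₐ[k] R[T;T⁻¹]) :=
  (MulAut.conj (Lam lam R)).toMonoidHom.comp (post (const R))

theorem orbit_apply (g : WithConv (A →ₐ[k] R)) :
    orbit lam R g = Lam lam R * post (const R) g * (Lam lam R)⁻¹ := rfl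

theorem conjOrbit_eq (g : A →ₐ[k] R) :
    Dyn.conjOrbit k A lam R g = (orbit lam R (toConv g)).ofConv := by
  rw [Dyn.conjOrbit, HopfPtLib.conv3_eq]
  rfl

theorem post_mapL_orbit (φ : R →ₐ[k] S) (g : WithConv (A →ₐ[k] R)) :
    post (mapL φ) (orbit lam R g) = orbit lam S (post φ g) := by
  rw [orbit_apply, orbit_apply, map_mul, map_mul, map_inv, post_mapL_Lam, post_post,
    mapL_comp_const, post_post]

/-- The orbit of the universal point. -/
noncomputable def univOrbit : A →ₐ[k] A[T;T⁻¹] :=
  (orbit lam A (toConv (AlgHom.id k A))).ofConv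

/-- The coefficient of `T ^ n` in the orbit of the universal point. -/
noncomputable def coef (n : ℤ) (a : A) : A := (univOrbit lam a).coeff n

theorem orbit_eq_post_univOrbit (g : A →ₐ[k] R) :
    orbit lam R (toConv g) = post (mapL g) (toConv (univOrbit lam)) := by
  rw [univOrbit, WithConv.toConv_ofConv, post_mapL_orbit]
  rfl

theorem orbit_coeff (g : WithConv (A →ₐ[k] R)) (a : A) (n : ℤ) :
    ((orbit lam R g).ofConv a).coeff n = g.ofConv (coef lam n a) := by
  conv_lhs => rw [← WithConv.toConv_ofConv g, orbit_eq_post_univOrbit]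
  simp [coef]

theorem conjOrbit_coeff (g : A →ₐ[k] R) (a : A) (n : ℤ) :
    (Dyn.conjOrbit k A lam R g a).coeff n = g (coef lam n a) := by
  rw [conjOrbit_eq]
  exact orbit_coeff lam (toConv g) a n

/-- `R[X] → R[T;T⁻¹]` over `k`. -/
noncomputable abbrev toL (R : Type u) [CommRing R] [Algebra k R] :
    Polynomial R →ₐ[k] R[T;T⁻¹] :=
  (Polynomial.toLaurentAlg (R := R)).restrictScalars k

/-- evaluation at `0`. -/
noncomputable abbrev eval0 (R : Type u) [CommRing R] [Algebra k R] : Polynomial R →ₐ[k] R :=
  (Polynomial.aeval (R := R) (0 : R)).restrictScalars k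

theorem toL_injective : Function.Injective (toL (k := k) R) :=
  Polynomial.toLaurent_injective

theorem eval0_apply (p : Polynomial R) : eval0 (k := k) R p = p.coeff 0 :=
  (Polynomial.coeff_zero_eq_aeval_zero p).symm

theorem coeff_toLaurent_natCast (p : Polynomial R) (n : ℕ) :
    (Polynomial.toLaurent p).coeff (n : ℤ) = p.coeff n := by
  rw [Polynomial.toLaurent_apply, AddMonoidAlgebra.coeff_mapDomain]
  exact Finsupp.mapDomain_apply Nat.cast_injective _ n

theorem coeff_toLaurent_of_neg (p : Polynomial R) {n : ℤ} (hn : n < 0) :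
    (Polynomial.toLaurent p).coeff n = 0 := by
  rw [Polynomial.toLaurent_apply, AddMonoidAlgebra.coeff_mapDomain]
  refine Finsupp.mapDomain_of_notMem_range _ _ ?_
  rintro ⟨m, rfl⟩
  exact absurd hn (not_lt.2 (Int.natCast_nonneg m))

theorem toLaurent_trunc {f : R[T;T⁻¹]} (hf : ∀ n < 0, f.coeff n = 0) :
    Polynomial.toLaurent (LaurentPolynomial.trunc f) = f := by
  apply LaurentPolynomial.ext
  intro n
  rcases lt_or_ge n 0 with hn | hn
  · rw [coeff_toLaurent_of_neg _ hn, hf n hn]
  · lift n to ℕ using hn
    rw [coeff_toLaurent_natCast]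
    rfl

theorem limExists_iff_mem (g : A →ₐ[k] R) :
    Dyn.LimExists k A lam R g ↔ orbit lam R (toConv g) ∈ (post (toL R)).range := by
  rw [Dyn.LimExists, conjOrbit_eq]
  constructor
  · rintro ⟨h, hh⟩
    exact ⟨toConv h, WithConv.ofConv_injective hh⟩
  · rintro ⟨h, hh⟩
    exact ⟨h.ofConv, congrArg WithConv.ofConv hh⟩

theorem limIsOne_iff_mem (g : A →ₐ[k] R) :
    Dyn.LimIsOne k A lam R g ↔
      orbit lam R (toConv g) ∈ ((post (A := A) (eval0 R)).ker).map (post (toL R)) := by
  rw [Dyn.LimIsOne, conjOrbit_eq, Subgroup.mem_map]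
  constructor
  · rintro ⟨h, hh, h0⟩
    exact ⟨toConv h, WithConv.ofConv_injective h0, WithConv.ofConv_injective hh⟩
  · rintro ⟨h, h0, hh⟩
    exact ⟨h.ofConv, congrArg WithConv.ofConv hh, congrArg WithConv.ofConv h0⟩

theorem limExists_iff (g : A →ₐ[k] R) :
    Dyn.LimExists k A lam R g ↔ ∀ a : A, ∀ n < 0, g (coef lam n a) = 0 := by
  constructor
  · rintro ⟨h, hh⟩ a n hn
    rw [← conjOrbit_coeff lam g, ← hh]
    exact coeff_toLaurent_of_neg (h a) hn
  · intro H
    have hf : ∀ a, Polynomial.toLaurent (LaurentPolynomial.trunc (Dyn.conjOrbit k A lam R g a)) =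
        Dyn.conjOrbit k A lam R g a := fun a =>
      toLaurent_trunc fun n hn => by rw [conjOrbit_coeff]; exact H a n hn
    let F := Dyn.conjOrbit k A lam R g
    refine ⟨{ toFun := fun a => LaurentPolynomial.trunc (F a)
              map_one' := toL_injective (k := k)
                ((hf 1).trans ((map_one F).trans (map_one (toL R)).symm))
              map_mul' := fun a b => toL_injective (k := k)
                ((hf (a * b)).trans ((map_mul F a b).trans
                  ((congrArg₂ (· * ·) (hf a) (hf b)).symm.trans (map_mul (toL R) _ _).symm)))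
              map_zero' := toL_injective (k := k)
                ((hf 0).trans ((map_zero F).trans (map_zero (toL R)).symm))
              map_add' := fun a b => toL_injective (k := k)
                ((hf (a + b)).trans ((map_add F a b).trans
                  ((congrArg₂ (· + ·) (hf a) (hf b)).symm.trans (map_add (toL R) _ _).symm)))
              commutes' := fun r => toL_injective (k := k)
                ((hf (algebraMap k A r)).trans
                  ((F.commutes r).trans ((toL R).commutes r).symm)) }, AlgHom.ext hf⟩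

theorem limIsOne_iff (g : A →ₐ[k] R) :
    Dyn.LimIsOne k A lam R g ↔ (∀ a : A, ∀ n < 0, g (coef lam n a) = 0) ∧
      ∀ a : A, g (coef lam 0 a) = algebraMap k R (Coalgebra.counit a) := by
  constructor
  · rintro ⟨h, hh, h0⟩
    refine ⟨(limExists_iff lam g).1 ⟨h, hh⟩, fun a => ?_⟩
    have h1 : eval0 (k := k) R (h a) = algebraMap k R (Coalgebra.counit a) :=
      congrArg (fun f : A →ₐ[k] R => f a) h0
    rw [← conjOrbit_coeff lam g, ← hh]
    rw [eval0_apply (k := k)] at h1
    rw [show ((0 : ℤ)) = ((0 : ℕ) : ℤ) from rfl]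
    exact (coeff_toLaurent_natCast (h a) 0).trans h1
  · rintro ⟨H, H0⟩
    obtain ⟨h, hh⟩ := (limExists_iff lam g).2 H
    refine ⟨h, hh, AlgHom.ext fun a => ?_⟩
    have h1 := conjOrbit_coeff lam g a 0
    rw [← hh, H0] at h1
    exact (eval0_apply (k := k) (h a)).trans ((coeff_toLaurent_natCast (h a) 0).symm.trans h1)

end Groth.Agent.DynLib41
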