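import Groth.Agent.DynLib41.BigCell
import Groth.Agent.MultTypeLib.ConnCrit
import Groth.Agent.GrpSchLib.FieldComp
import Mathlib.AlgebraicGeometry.Group.Affine
import Mathlib.Topology.Irreducible
set_option linter.style.haveILetI false

/-!
# Connectedness of `U(λ)` and `P(λ)`
-/

universe u

open LaurentPolynomial TensorProduct CategoryTheory AlgebraicGeometry MonObj
open WithConv

namespace Groth.Agent.DynLib41

/-- An idempotent polynomial is constant. -/
theorem eq_C_of_isIdempotentElem {B : Type u} [CommRing B] {p : Polynomial B}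
    (hp : IsIdempotentElem p) : p = Polynomial.C (p.coeff 0) := by
  have hc : IsIdempotentElem (p.coeff 0) := by
    have := congrArg (fun q => Polynomial.coeff q 0) hp.eq
    simpa [Polynomial.mul_coeff_zero, IsIdempotentElem] using this
  set q := Polynomial.C (p.coeff 0) with hq
  have hq2 : q * q = q := by rw [hq, ← map_mul, hc.eq]
  set d := p - q with hd
  have h3 : d * d * d = d := by
    rw [hd]
    linear_combination (p + 1 - 3 * q) * hp.eq + (3 * p - q - 1) * hq2
  have hX : Polynomial.X ∣ d := Polynomial.X_dvd_iff.2 (by simp [hd, hq])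
  have hn : ∀ n : ℕ, Polynomial.X ^ (2 * n + 1) ∣ d := by
    intro n
    induction n with
    | zero => simpa using hX
    | succ n ih =>
      rw [← h3, show 2 * (n + 1) + 1 = 1 + 1 + (2 * n + 1) by ring, pow_add, pow_add, pow_one]
      exact mul_dvd_mul (mul_dvd_mul hX hX) ih
  refine sub_eq_zero.1 (Polynomial.ext fun n => ?_)
  rw [Polynomial.coeff_zero]
  exact Polynomial.X_pow_dvd_iff.1 (hn n) n (by omega)

variable {k : Type u} [CommRing k] {A : Type u} [CommRing A] [HopfAlgebra k A]
variable (lam : A →ₐc[k] k[T;T⁻¹])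

theorem exists_lamNeg : ∃ lamNeg : A →ₐc[k] k[T;T⁻¹],
    (lamNeg : A →ₐ[k] k[T;T⁻¹]) = Dyn.negParam k A lam := by
  refine ⟨(AddMonoidAlgebra.mapDomainBialgHom k (-AddMonoidHom.id ℤ)).comp lam,
    AlgHom.ext fun x => ?_⟩
  show AddMonoidAlgebra.mapDomainBialgHom k (-AddMonoidHom.id ℤ) (lam x) =
    LaurentPolynomial.invert (lam x)
  generalize lam x = p
  induction p using LaurentPolynomial.induction_on' with
  | add p q hp hq => rw [map_add, map_add, hp, hq]
  | C_mul_T n r =>
    rw [← LaurentPolynomial.single_eq_C_mul_T]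
    simp [LaurentPolynomial.invert, -LaurentPolynomial.single_eq_C_mul_T]

theorem eq_of_represents {J J' : Ideal A}
    {P : ∀ (R : Type u) [CommRing R] [Algebra k R], (A →ₐ[k] R) → Prop}
    (h : Dyn.Represents k A J P) (h' : Dyn.Represents k A J' P) : J = J' := by
  have key : ∀ {J J' : Ideal A}, Dyn.Represents k A J P → Dyn.Represents k A J' P → J ≤ J' :=
    fun {J J'} h h' x hx => Ideal.Quotient.eq_zero_iff_mem.1
      ((h (A ⧸ J') (Ideal.Quotient.mkₐ k J')).2
        ((h' (A ⧸ J') _).1 fun y hy => Ideal.Quotient.eq_zero_iff_mem.2 hy) x hx)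
  exact le_antisymm (key h h') (key h' h)

theorem coef_algebraMap (n : ℤ) (r : k) :
    coef lam n (algebraMap k A r) = if n = 0 then algebraMap k A r else 0 := by
  show (univOrbit lam (algebraMap k A r)).coeff n = _
  rw [AlgHom.commutes]
  exact LaurentPolynomial.C_apply (algebraMap k A r) n

theorem coef_sub (n : ℤ) (x y : A) : coef lam n (x - y) = coef lam n x - coef lam n y := by
  simp [coef]

theorem mapL_univOrbit_eq_zero {J : Ideal A}
    (hJ : Dyn.Represents k A J (fun R _ _ g => Dyn.LimIsOne k A lam R g)) {x : A} (hx : x ∈ J) :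
    mapL (Ideal.Quotient.mkₐ k J) (univOrbit lam x) = 0 := by
  obtain rfl : J = idealIsOne lam := eq_of_represents hJ (represents_idealIsOne lam)
  set J := idealIsOne lam
  have hle : J ≤ RingHom.ker ((mapL (Ideal.Quotient.mkₐ k J)).comp (univOrbit lam)) := by
    refine sup_le (Ideal.span_le.2 ?_) (Ideal.span_le.2 ?_)
    · rintro _ ⟨a, m, hm, rfl⟩
      refine LaurentPolynomial.ext fun n => ?_
      rw [AlgHom.comp_apply, AddMonoidAlgebra.coeff_mapAlgHom]
      show Ideal.Quotient.mkₐ k J (coef lam n (coef lam m a)) = _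
      rw [coef_coef]
      split_ifs with h
      · exact Ideal.Quotient.eq_zero_iff_mem.2
          (Ideal.mem_sup_left (Ideal.subset_span ⟨a, m, hm, rfl⟩))
      · exact map_zero _
    · rintro _ ⟨a, rfl⟩
      refine LaurentPolynomial.ext fun n => ?_
      rw [AlgHom.comp_apply, AddMonoidAlgebra.coeff_mapAlgHom]
      show Ideal.Quotient.mkₐ k J (coef lam n (coef lam 0 a - algebraMap k A (Coalgebra.counit a))) = _
      rw [coef_sub, coef_coef, coef_algebraMap]
      split_ifs with h
      · exact Ideal.Quotient.eq_zero_iff_mem.2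
          (Ideal.mem_sup_right (Ideal.subset_span ⟨a, rfl⟩))
      · rw [sub_zero, map_zero]; rfl
  exact hle hx

theorem isIdempotentElem_quotient_isOne {k : Type u} [Field k] {A : Type u} [CommRing A]
    [HopfAlgebra k A] (lam : A →ₐc[k] k[T;T⁻¹]) {J : Ideal A}
    (hJ : Dyn.Represents k A J (fun R _ _ g => Dyn.LimIsOne k A lam R g))
    (e : A ⧸ J) (he : IsIdempotentElem e) : e = 0 ∨ e = 1 := by
  let mk := Ideal.Quotient.mkₐ k J
  obtain ⟨h, hh, h0⟩ := (hJ (A ⧸ J) mk).1 fun x hx => Ideal.Quotient.eq_zero_iff_mem.2 hx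
  have hker : ∀ x ∈ J, h x = 0 := by
    intro x hx
    refine toL_injective (k := k) ?_
    rw [map_zero, ← AlgHom.comp_apply (toL (k := k) (A ⧸ J)) h, hh, conjOrbit_eq, orbit_eq_post_univOrbit]
    exact mapL_univOrbit_eq_zero lam hJ hx
  let hb : A ⧸ J →ₐ[k] Polynomial (A ⧸ J) := Ideal.Quotient.liftₐ J h hker
  obtain ⟨x, rfl⟩ := Ideal.Quotient.mkₐ_surjective k J e
  have hp := eq_C_of_isIdempotentElem (he.map hb)
  have hhb : hb (mk x) = h x := rfl
  rw [hhb] at hp
  have hc : (h x).coeff 0 = algebraMap k (A ⧸ J) (Coalgebra.counit x) := by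
    rw [← eval0_apply (k := k)]
    exact AlgHom.congr_fun h0 x
  have h1 : eval1 (A ⧸ J) (Polynomial.toLaurent (h x)) = mk x := by
    have h2 : toL (k := k) (A ⧸ J) (h x) = (orbit lam (A ⧸ J) (toConv mk)).ofConv x := by
      rw [← AlgHom.comp_apply (toL (k := k) (A ⧸ J)) h, hh, conjOrbit_eq]
    refine (congrArg (eval1 (A ⧸ J)) h2).trans ?_
    exact congrArg (fun f : WithConv (A →ₐ[k] A ⧸ J) => f.ofConv x) (post_eval1_orbit lam (toConv mk))
  rw [hp, Polynomial.toLaurent_C, eval1_C, hc] at h1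
  rcases subsingleton_or_nontrivial (A ⧸ J) with hs | hn
  · exact Or.inl (Subsingleton.elim _ _)
  · have he' : IsIdempotentElem (Coalgebra.counit x : k) := by
      refine (algebraMap k (A ⧸ J)).injective ?_
      rw [map_mul, h1]
      exact he.eq
    rcases IsIdempotentElem.iff_eq_zero_or_one.1 he' with h2 | h2
    · left; rw [← h1, h2, map_zero]
    · right; rw [← h1, h2, map_one]

theorem isIdempotentElem_quotient_exists {k : Type u} [Field k] {A : Type u} [CommRing A]
    [HopfAlgebra k A] [Algebra.FiniteType k A] (lam : A →ₐc[k] k[T;T⁻¹]) {J : Ideal A}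
    [J.IsHopfIdeal k] (hJ : Dyn.Represents k A J (fun R _ _ g => Dyn.LimExists k A lam R g))
    (hA : ∀ e : A, IsIdempotentElem e → e = 0 ∨ e = 1)
    (e : A ⧸ J) (he : IsIdempotentElem e) : e = 0 ∨ e = 1 := by
  obtain ⟨d, w, a, h⟩ := exists_isWeightMatrix lam
  obtain ⟨lamNeg, hneg⟩ := exists_lamNeg lam
  let Jm := idealIsOne lamNeg
  haveI := isHopfIdeal_idealIsOne lamNeg
  haveI : IsOpenImmersion (Spec.map (CommRingCat.ofHom (cellMap (k := k) Jm J).toRingHom)) :=
    h.isOpenImmersion hneg hJ (represents_idealIsOne lamNeg)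
  let C := (A ⧸ Jm) ⊗[k] (A ⧸ J)
  let εm : A ⧸ Jm →ₐ[k] k := Ideal.Quotient.liftₐ Jm (Bialgebra.counitAlgHom k A) fun x hx =>
    Submodule.IsCoideal.counit_eq_zero (R := k) ((Submodule.restrictScalars_mem k _ x).2 hx)
  let εp : A ⧸ J →ₐ[k] k := Ideal.Quotient.liftₐ J (Bialgebra.counitAlgHom k A) fun x hx =>
    Submodule.IsCoideal.counit_eq_zero (R := k) ((Submodule.restrictScalars_mem k _ x).2 hx)
  let π : C →ₐ[k] A ⧸ J :=
    Algebra.TensorProduct.lift ((Algebra.ofId k _).comp εm) (AlgHom.id k _) fun x y => Commute.all _ _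
  let ev : A →ₐ[k] k := Bialgebra.counitAlgHom k A
  haveI : Nontrivial A := ev.toRingHom.domain_nontrivial
  haveI : Nontrivial C := (εp.comp π).toRingHom.domain_nontrivial
  haveI : ConnectedSpace (PrimeSpectrum A) := MultTypeLib.connectedSpace_of_idem hA
  haveI : IrreducibleSpace (Spec (CommRingCat.of A)) := by
    let G : Over (Spec (CommRingCat.of k)) := (Spec (CommRingCat.of A)).asOver _
    haveI : ConnectedSpace G.left := inferInstanceAs (ConnectedSpace (PrimeSpectrum A))
    obtain ⟨g, hg, hge⟩ := GrpSchLib.exists_isMaxPt (η[G].left (IsLocalRing.closedPoint k))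
    have hc := GrpSchLib.connectedComponent_one hg hge
    rw [PreconnectedSpace.connectedComponent_eq_univ] at hc
    show IrreducibleSpace G.left
    rw [irreducibleSpace_def, Set.top_eq_univ, hc]
    exact isIrreducible_singleton.closure
  haveI : PreirreducibleSpace (PrimeSpectrum C) :=
    (Spec.map (CommRingCat.ofHom (cellMap (k := k) Jm J).toRingHom)).isOpenEmbedding.preirreducibleSpace
  haveI : IrreducibleSpace (PrimeSpectrum C) := { toNonempty := inferInstance }
  have h1 := MultTypeLib.idem_trivial (A := C) (a := (1 : A ⧸ Jm) ⊗ₜ[k] e)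
    (by
      show _ * _ = _
      rw [Algebra.TensorProduct.tmul_mul_tmul, _root_.one_mul, he.eq])
  have he' : π ((1 : A ⧸ Jm) ⊗ₜ[k] e) = e := by
    refine (Algebra.TensorProduct.lift_tmul _ _ _ _ _).trans ?_
    rw [map_one, _root_.one_mul, AlgHom.id_apply]
  rcases h1 with h2 | h2
  · left; rw [← he', h2, map_zero]
  · right; rw [← he', h2, map_one]

end Groth.Agent.DynLib41
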