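import Mathlib.Algebra.Polynomial.Laurent
import Mathlib.Algebra.MvPolynomial.CommRing
import Mathlib.LinearAlgebra.Matrix.Block
import Mathlib.LinearAlgebra.Matrix.NonsingularInverse
import Mathlib.RingTheory.Finiteness.Basic
import Mathlib.LinearAlgebra.Dimension.OrzechProperty
import Mathlib.RingTheory.FiniteType
import Mathlib.RingTheory.Finiteness.Subalgebra
import Mathlib.Tactic.NoncommRing
import Mathlib.RingTheory.MvPolynomial.WeightedHomogeneous

/-!
# Weighted Gauss decomposition of matrices and of stable ideals of polynomials in matrix entries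
-/

universe u

open Pointwise

namespace Groth.Agent.DynLib41.Gauss

variable {R : Type u} [CommRing R] {X : Type} [Fintype X] [DecidableEq X] (w : X → ℤ)

/-- Unitriangular lowering weights. -/
def Lower (U : Matrix X X R) : Prop := ∀ i j, w j ≤ w i → U i j = if i = j then 1 else 0

/-- Preserving the weight filtration. -/
def Upper (B : Matrix X X R) : Prop := ∀ i j, w i < w j → B i j = 0

/-- The columns of weight at least `m` of a matrix, completed by the identity. -/
def selMat (m : ℤ) (M : Matrix X X R) : Matrix X X R :=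
  Matrix.of fun i j => if m ≤ w j then M i j else if i = j then 1 else 0

/-- The big cell. -/
def IsBig (M : Matrix X X R) : Prop := ∀ l, IsUnit (selMat w (w l) M).det

theorem isBig_mul {U U' P P' : Matrix X X R} (hU : Lower w U) (hP' : Upper w P')
    (hU2 : U * U' = 1) (hP1 : P * P' = 1) :
    IsBig w (U * P) := by
  intro l
  let m := w l
  let Q : Matrix X X R := Matrix.diagonal fun i => if m ≤ w i then 1 else 0
  let Q' : Matrix X X R := Matrix.diagonal fun i => if m ≤ w i then 0 else 1
  have hQ : Q + Q' = 1 := by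
    rw [Matrix.diagonal_add, ← Matrix.diagonal_one]
    congr 1; funext i
    split_ifs <;> simp
  have hQQ' : Q * Q' = 0 := by
    rw [Matrix.diagonal_mul_diagonal, ← Matrix.diagonal_zero]
    congr 1; funext i
    split_ifs <;> simp
  have hsel : selMat w m (U * P) = U * P * Q + Q' := by
    ext i j
    simp only [selMat, Matrix.of_apply, Matrix.add_apply, Matrix.mul_diagonal, Q, Q',
      Matrix.diagonal_apply]
    by_cases h1 : m ≤ w j <;> by_cases h2 : i = j <;> first | (subst h2; simp [h1]) | simp [h1, h2]
  have hP : Q' * P' * Q = 0 := by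
    ext i j
    simp only [Q, Q', Matrix.mul_diagonal, Matrix.diagonal_mul, Matrix.zero_apply]
    by_cases h1 : m ≤ w i
    · simp [h1]
    · by_cases h2 : m ≤ w j
      · rw [hP' i j (by omega)]; simp
      · simp [h2]
  have hUQ : Q * U * Q' = 0 := by
    ext i j
    simp only [Q, Q', Matrix.mul_diagonal, Matrix.diagonal_mul, Matrix.zero_apply]
    by_cases h2 : m ≤ w j
    · simp [h2]
    · by_cases h1 : m ≤ w i
      · have hij : i ≠ j := fun e => h2 (e ▸ h1)
        simp [hU i j (by omega), hij]
      · simp [h1]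
  refine Matrix.isUnit_det_of_right_inverse (B := P' * Q * U' + U * Q' * U') ?_
  rw [hsel]
  have e1 : Q * P' * Q = P' * Q := by
    conv_rhs => rw [← one_mul (P' * Q), ← hQ, add_mul, ← mul_assoc, ← mul_assoc, hP, add_zero]
  have e2 : Q' * U * Q' = U * Q' := by
    conv_rhs => rw [← one_mul (U * Q'), ← hQ, add_mul, ← mul_assoc, ← mul_assoc, hUQ, zero_add]
  calc (U * P * Q + Q') * (P' * Q * U' + U * Q' * U')
      = U * P * (Q * P' * Q) * U' + U * P * (Q * U * Q') * U' + (Q' * P' * Q) * U' +
          (Q' * U * Q') * U' := by noncomm_ring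
    _ = U * (P * P') * Q * U' + U * Q' * U' := by
          rw [e1, e2, hP, hUQ]; noncomm_ring
    _ = U * (Q + Q') * U' := by rw [hP1]; noncomm_ring
    _ = 1 := by rw [hQ, mul_one, hU2]

theorem exists_decomp {M : Matrix X X R} (hbig : IsBig w M) :
    ∃ U B : Matrix X X R, U = M * B ∧ Lower w U ∧ Upper w B ∧ IsUnit U.det ∧ IsUnit B.det ∧
      Upper w B⁻¹ := by
  let B : Matrix X X R := Matrix.of fun i l =>
    if w l ≤ w i then ((selMat w (w l) M)⁻¹) i l else 0
  have hlow : Lower w (M * B) := by
    intro i l hil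
    have h := congrFun (congrFun (Matrix.mul_nonsing_inv _ (hbig l)) i) l
    rw [Matrix.one_apply] at h
    rw [← h, Matrix.mul_apply, Matrix.mul_apply]
    refine Finset.sum_congr rfl fun j _ => ?_
    simp only [B, selMat, Matrix.of_apply]
    by_cases hj : w l ≤ w j
    · simp [hj]
    · rw [if_neg hj, if_neg hj, if_neg (by rintro rfl; exact hj hil)]
      simp
  have hup : Upper w B := fun i l h => by simp [B, not_le.2 h]
  have hdet : (M * B).det = 1 := by
    rw [Matrix.BlockTriangular.det (b := w) fun i j hij => by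
      rw [hlow i j hij.le, if_neg (fun e => (ne_of_lt hij) (congrArg w e).symm)]]
    refine Finset.prod_eq_one fun c _ => ?_
    have : (M * B).toSquareBlock w c = 1 := by
      ext ⟨i, hi⟩ ⟨j, hj⟩
      show (M * B) i j = _
      rw [hlow i j (le_of_eq (hj.trans hi.symm)), Matrix.one_apply]
      simp [Subtype.mk_eq_mk]
    rw [this, Matrix.det_one]
  have hBdet : IsUnit B.det :=
    IsUnit.of_mul_eq_one M.det (by rw [mul_comm, ← Matrix.det_mul, hdet])
  refine ⟨M * B, B, rfl, hlow, hup, by rw [hdet]; exact isUnit_one, hBdet, ?_⟩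
  haveI := B.invertibleOfIsUnitDet hBdet
  intro i j hij
  exact Matrix.blockTriangular_inv_of_blockTriangular (b := fun x => -w x)
    (fun p q hpq => hup p q (neg_lt_neg_iff.1 hpq)) (neg_lt_neg hij)

section Poly

/-- Substitution `X ↦ X * N`. -/
noncomputable def subst (N : Matrix X X R) :
    MvPolynomial (X × X) R →ₐ[R] MvPolynomial (X × X) R :=
  MvPolynomial.aeval fun p => ∑ j, MvPolynomial.C (N j p.2) * MvPolynomial.X (p.1, j)

theorem subst_subst (N N' : Matrix X X R) (f : MvPolynomial (X × X) R) :
    subst N (subst N' f) = subst (N * N') f := by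
  rw [← AlgHom.comp_apply]
  congr 1
  refine MvPolynomial.algHom_ext fun p => ?_
  simp only [AlgHom.comp_apply, subst, MvPolynomial.aeval_X, map_sum, map_mul,
    MvPolynomial.aeval_C, MvPolynomial.algebraMap_eq, Finset.mul_sum, Matrix.mul_apply,
    Finset.sum_mul]
  rw [Finset.sum_comm]
  refine Finset.sum_congr rfl fun j _ => Finset.sum_congr rfl fun l _ => ?_
  ring

theorem subst_one (f : MvPolynomial (X × X) R) : subst (1 : Matrix X X R) f = f := by
  have : subst (1 : Matrix X X R) = AlgHom.id R _ := by
    refine MvPolynomial.algHom_ext fun p => ?_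
    simp [subst, Matrix.one_apply, apply_ite MvPolynomial.C, ite_mul]
  rw [this, AlgHom.id_apply]

/-- Weight of a monomial in the entries: the weights of the columns. -/
noncomputable def wt (w : X → ℤ) : ((X × X) →₀ ℕ) →+ ℤ := Finsupp.weight fun p : X × X => w p.2

theorem wt_single (p : X × X) : wt w (Finsupp.single p 1) = w p.2 := by
  simp [wt, Finsupp.weight_single]

/-- Monomials with weight in a set. -/
noncomputable def monos (Z : Set ℤ) : Submodule R (MvPolynomial (X × X) R) :=
  Submodule.span R {x | ∃ s, wt w s ∈ Z ∧ x = MvPolynomial.monomial s 1}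

theorem monomial_mem_monos {Z : Set ℤ} {s : (X × X) →₀ ℕ} (hs : wt w s ∈ Z) (c : R) :
    MvPolynomial.monomial s c ∈ monos w Z := by
  rw [show MvPolynomial.monomial s c = c • MvPolynomial.monomial s (1 : R) by
    rw [MvPolynomial.smul_monomial, smul_eq_mul, mul_one]]
  exact Submodule.smul_mem _ _ (Submodule.subset_span ⟨s, hs, rfl⟩)

theorem monos_le {Z : Set ℤ} {q : Submodule R (MvPolynomial (X × X) R)}
    (h : ∀ s, wt w s ∈ Z → MvPolynomial.monomial s 1 ∈ q) : monos w Z ≤ q := by
  refine Submodule.span_le.2 ?_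
  rintro _ ⟨s, hs, rfl⟩
  exact h s hs

theorem mul_mem_monos {Z Z' Z'' : Set ℤ} (hZ : ∀ a ∈ Z, ∀ b ∈ Z', a + b ∈ Z'')
    {x y : MvPolynomial (X × X) R} (hx : x ∈ monos w Z) (hy : y ∈ monos w Z') :
    x * y ∈ monos w Z'' := by
  have h := Submodule.mul_mem_mul hx hy
  rw [monos, monos, Submodule.span_mul_span] at h
  refine Submodule.span_le.2 ?_ h
  rintro _ ⟨_, ⟨s, hs, rfl⟩, _, ⟨t, ht, rfl⟩, rfl⟩
  show MvPolynomial.monomial s (1 : R) * MvPolynomial.monomial t 1 ∈ monos w Z''
  rw [MvPolynomial.monomial_mul, mul_one]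
  exact monomial_mem_monos w (by rw [map_add]; exact hZ _ hs _ ht) 1

theorem subst_upper_monomial {B : Matrix X X R} (hB : Upper w B) (s : (X × X) →₀ ℕ) (c : R) :
    subst B (MvPolynomial.monomial s c) ∈ monos w (Set.Ici (wt w s)) := by
  induction s using Finsupp.induction generalizing c with
  | zero =>
    rw [show MvPolynomial.monomial 0 c = MvPolynomial.C c from rfl, subst, MvPolynomial.aeval_C,
      MvPolynomial.algebraMap_eq]
    exact monomial_mem_monos w (by simp) c
  | single_add p n s _ hn ih =>
    clear hn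
    induction n with
    | zero => simpa using ih c
    | succ n ihn =>
      rw [show Finsupp.single p (n + 1) + s = Finsupp.single p 1 + (Finsupp.single p n + s) by
        rw [← add_assoc, ← Finsupp.single_add, add_comm 1 n], MvPolynomial.monomial_single_add,
        pow_one, map_mul, map_add]
      refine mul_mem_monos w (Z := Set.Ici (wt w (Finsupp.single p 1)))
        (fun a ha b hb => add_le_add ha hb) ?_ ihn
      rw [subst, MvPolynomial.aeval_X]
      refine sum_mem fun j _ => ?_
      by_cases hj : w p.2 ≤ w j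
      · rw [← MvPolynomial.smul_eq_C_mul]
        exact Submodule.smul_mem _ _ (Submodule.subset_span
          ⟨Finsupp.single (p.1, j) 1, by rw [Set.mem_Ici, wt_single, wt_single]; exact hj, rfl⟩)
      · rw [hB j p.2 (not_le.1 hj)]; simp

theorem subst_lower_monomial {U : Matrix X X R} (hU : Lower w U) (s : (X × X) →₀ ℕ) (c : R) :
    subst U (MvPolynomial.monomial s c) - MvPolynomial.monomial s c ∈
      monos w (Set.Iio (wt w s)) := by
  induction s using Finsupp.induction generalizing c with
  | zero =>
    rw [show MvPolynomial.monomial 0 c = MvPolynomial.C c from rfl, subst, MvPolynomial.aeval_C,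
      MvPolynomial.algebraMap_eq, sub_self]
    exact zero_mem _
  | single_add p n s _ hn ih =>
    clear hn
    induction n with
    | zero => simpa using ih c
    | succ n ihn =>
      rw [show Finsupp.single p (n + 1) + s = Finsupp.single p 1 + (Finsupp.single p n + s) by
        rw [← add_assoc, ← Finsupp.single_add, add_comm 1 n], MvPolynomial.monomial_single_add,
        pow_one, map_mul, map_add]
      have hX : subst U (MvPolynomial.X p) - MvPolynomial.X p ∈
          monos w (Set.Iio (wt w (Finsupp.single p 1))) := by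
        have he : (MvPolynomial.X p : MvPolynomial (X × X) R) =
            ∑ j, MvPolynomial.C ((1 : Matrix X X R) j p.2) * MvPolynomial.X (p.1, j) := by
          simp [Matrix.one_apply, apply_ite MvPolynomial.C, ite_mul]
        conv =>
          arg 2; arg 2
          rw [he]
        rw [subst, MvPolynomial.aeval_X, ← Finset.sum_sub_distrib]
        refine sum_mem fun j _ => ?_
        rw [← sub_mul, ← map_sub]
        by_cases hj : w j < w p.2
        · rw [← MvPolynomial.smul_eq_C_mul]
          exact Submodule.smul_mem _ _ (Submodule.subset_span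
            ⟨Finsupp.single (p.1, j) 1, by rw [Set.mem_Iio, wt_single, wt_single]; exact hj, rfl⟩)
        · rw [hU j p.2 (not_lt.1 hj), Matrix.one_apply, sub_self]; simp
      set q := MvPolynomial.monomial (Finsupp.single p n + s) c
      have hq : q ∈ monos w (Set.Iio (wt w (Finsupp.single p n + s) + 1)) :=
        monomial_mem_monos w (Set.mem_Iio.2 (lt_add_one _)) c
      have hXU : subst U (MvPolynomial.X p) ∈
          monos w (Set.Iio (wt w (Finsupp.single p 1) + 1)) := by
        rw [← sub_add_cancel (subst U (MvPolynomial.X p)) (MvPolynomial.X p)]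
        refine add_mem (Submodule.span_mono ?_ hX)
          (monomial_mem_monos w (Set.mem_Iio.2 (lt_add_one _)) 1)
        rintro _ ⟨t, ht, rfl⟩
        exact ⟨t, Set.mem_Iio.2 (lt_add_of_lt_of_nonneg ht zero_le_one), rfl⟩
      rw [show subst U (MvPolynomial.X p) * subst U q - MvPolynomial.X p * q =
        subst U (MvPolynomial.X p) * (subst U q - q) +
          (subst U (MvPolynomial.X p) - MvPolynomial.X p) * q by ring]
      refine add_mem (mul_mem_monos w (fun a ha b hb => ?_) hXU ihn)
        (mul_mem_monos w (fun a ha b hb => ?_) hX hq) <;>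
      · simp only [Set.mem_Iio] at ha hb ⊢
        omega

theorem subst_upper_mem {B : Matrix X X R} (hB : Upper w B) {m : ℤ} {x : MvPolynomial (X × X) R}
    (hx : x ∈ monos w (Set.Ici m)) : subst B x ∈ monos w (Set.Ici m) := by
  suffices hle : monos w _ ≤ Submodule.comap ((subst B).toLinearMap) (monos w (Set.Ici m)) from hle hx
  refine monos_le w fun s hs => ?_
  refine Submodule.span_mono ?_ (subst_upper_monomial w hB s 1)
  rintro _ ⟨t, ht, rfl⟩
  exact ⟨t, le_trans (Set.mem_Ici.1 hs) ht, rfl⟩

theorem subst_lower_mem {U : Matrix X X R} (hU : Lower w U) {m : ℤ} {x : MvPolynomial (X × X) R}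
    (hx : x ∈ monos w (Set.Iio m)) : subst U x ∈ monos w (Set.Iio m) := by
  suffices hle : monos w _ ≤ Submodule.comap ((subst U).toLinearMap) (monos w (Set.Iio m)) from hle hx
  refine monos_le w fun s hs => ?_
  show subst U (MvPolynomial.monomial s 1) ∈ monos w (Set.Iio m)
  rw [← sub_add_cancel (subst U (MvPolynomial.monomial s (1 : R))) (MvPolynomial.monomial s 1)]
  refine add_mem (Submodule.span_mono ?_ (subst_lower_monomial w hU s 1))
    (monomial_mem_monos w hs 1)
  rintro _ ⟨t, ht, rfl⟩
  exact ⟨t, Set.mem_Iio.2 (lt_trans (Set.mem_Iio.1 ht) (Set.mem_Iio.1 hs)), rfl⟩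

theorem subst_lower_sub_mem {U : Matrix X X R} (hU : Lower w U) {m : ℤ}
    {x : MvPolynomial (X × X) R} (hx : x ∈ monos w {m}) :
    x - subst U x ∈ monos w (Set.Iio m) := by
  suffices hle : monos w _ ≤ Submodule.comap ((LinearMap.id : MvPolynomial (X × X) R →ₗ[R] _) - (subst U).toLinearMap) (monos w (Set.Iio m)) from hle hx
  refine monos_le w fun s hs => ?_
  show MvPolynomial.monomial s 1 - subst U (MvPolynomial.monomial s 1) ∈ monos w (Set.Iio m)
  rw [← neg_sub]
  exact neg_mem ((Set.mem_singleton_iff.1 hs) ▸ subst_lower_monomial w hU s 1)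

open LaurentPolynomial in
/-- The grading of the polynomials by column weights. -/
noncomputable def grade : MvPolynomial (X × X) R →ₐ[R] (MvPolynomial (X × X) R)[T;T⁻¹] :=
  MvPolynomial.aeval fun p => LaurentPolynomial.C (MvPolynomial.X p) * LaurentPolynomial.T (w p.2)

theorem grade_monomial (s : (X × X) →₀ ℕ) (c : R) :
    grade w (MvPolynomial.monomial s c) =
      AddMonoidAlgebra.single (wt w s) (MvPolynomial.monomial s c) := by
  induction s using Finsupp.induction generalizing c with
  | zero =>
    rw [show MvPolynomial.monomial 0 c = MvPolynomial.C c from rfl, grade, MvPolynomial.aeval_C,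
      map_zero]
    rfl
  | single_add p n s _ hn ih =>
    clear hn
    induction n with
    | zero => simpa using ih c
    | succ n ihn =>
      rw [show Finsupp.single p (n + 1) + s = Finsupp.single p 1 + (Finsupp.single p n + s) by
        rw [← add_assoc, ← Finsupp.single_add, add_comm 1 n], MvPolynomial.monomial_single_add,
        pow_one, map_mul, ihn, grade, MvPolynomial.aeval_X,
        ← LaurentPolynomial.single_eq_C_mul_T, AddMonoidAlgebra.single_mul_single,
        map_add (wt w) (Finsupp.single p 1), wt_single]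

/-- The component of weight `n`. -/
noncomputable def comp (n : ℤ) : MvPolynomial (X × X) R →ₗ[R] MvPolynomial (X × X) R where
  toFun f := (grade w f).coeff n
  map_add' f g := by simp
  map_smul' r f := by simp

theorem comp_monomial (n : ℤ) (s : (X × X) →₀ ℕ) (c : R) :
    comp w n (MvPolynomial.monomial s c) = if wt w s = n then MvPolynomial.monomial s c else 0 := by
  classical
  show (grade w (MvPolynomial.monomial s c)).coeff n = _
  rw [grade_monomial, AddMonoidAlgebra.coeff_single, Finsupp.single_apply]

theorem comp_mem (n : ℤ) (f : MvPolynomial (X × X) R) : comp w n f ∈ monos w {n} := by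
  induction f using MvPolynomial.induction_on' with
  | monomial s c =>
    rw [comp_monomial]
    split_ifs with h
    · exact monomial_mem_monos w h c
    · exact zero_mem _
  | add f g hf hg => rw [map_add]; exact add_mem hf hg

/-- The part of weight at least `m`. -/
noncomputable def ge (m : ℤ) : MvPolynomial (X × X) R →ₗ[R] MvPolynomial (X × X) R :=
  (MvPolynomial.basisMonomials (X × X) R).constr R fun s =>
    if m ≤ wt w s then MvPolynomial.monomial s 1 else 0

theorem ge_monomial (m : ℤ) (s : (X × X) →₀ ℕ) :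
    ge w m (MvPolynomial.monomial s (1 : R)) = if m ≤ wt w s then MvPolynomial.monomial s 1 else 0 := by
  have : MvPolynomial.monomial s (1 : R) = MvPolynomial.basisMonomials (X × X) R s := rfl
  rw [this, ge, Module.Basis.constr_basis]
  rfl

theorem ge_of_mem {m : ℤ} {x : MvPolynomial (X × X) R} (hx : x ∈ monos w (Set.Ici m)) :
    ge w m x = x := by
  induction hx using Submodule.span_induction with
  | mem y hy => obtain ⟨s, hs, rfl⟩ := hy; rw [ge_monomial, if_pos (Set.mem_Ici.1 hs)]
  | zero => exact map_zero _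
  | add y z _ _ hy hz => rw [map_add, hy, hz]
  | smul r y _ hy => rw [map_smul, hy]

theorem ge_of_mem_lt {m : ℤ} {x : MvPolynomial (X × X) R} (hx : x ∈ monos w (Set.Iio m)) :
    ge w m x = 0 := by
  induction hx using Submodule.span_induction with
  | mem y hy => obtain ⟨s, hs, rfl⟩ := hy; rw [ge_monomial, if_neg (not_le.2 (Set.mem_Iio.1 hs))]
  | zero => exact map_zero _
  | add y z _ _ hy hz => rw [map_add, hy, hz, add_zero]
  | smul r y _ hy => rw [map_smul, hy, smul_zero]

theorem ge_spec (m : ℤ) (x : MvPolynomial (X × X) R) :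
    ge w m x ∈ monos w (Set.Ici m) ∧ x - ge w m x ∈ monos w (Set.Iio m) := by
  induction x using MvPolynomial.induction_on' with
  | monomial s c =>
    have hc : MvPolynomial.monomial s c = c • MvPolynomial.monomial s (1 : R) := by
      rw [MvPolynomial.smul_monomial, smul_eq_mul, mul_one]
    have h1 : ge w m (MvPolynomial.monomial s c) = if m ≤ wt w s then MvPolynomial.monomial s c else 0 := by
      have h2 := (map_smul (ge w m) c (MvPolynomial.monomial s (1 : R))).trans
        (congrArg (c • ·) (ge_monomial w m s))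
      rw [← hc] at h2
      rw [h2]
      split_ifs
      · exact hc.symm
      · exact smul_zero c
    rw [h1]
    split_ifs with h
    · rw [sub_self]
      exact ⟨monomial_mem_monos w (Z := Set.Ici m) (Set.mem_Ici.2 h) c, zero_mem _⟩
    · rw [sub_zero]
      exact ⟨zero_mem _, monomial_mem_monos w (Z := Set.Iio m) (Set.mem_Iio.2 (not_le.1 h)) c⟩
  | add f g hf hg =>
    rw [map_add, add_sub_add_comm]
    exact ⟨add_mem hf.1 hg.1, add_mem hf.2 hg.2⟩

theorem ge_eq_sum (m : ℤ) (x : MvPolynomial (X × X) R) :
    ∃ S : Finset ℤ, ge w m x = ∑ n ∈ S, comp w n x := by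
  classical
  have key : ∀ f : MvPolynomial (X × X) R,
      ge w m f = (grade w f).coeff.sum fun n c => if m ≤ n then c else 0 := fun f => by
    induction f using MvPolynomial.induction_on' with
    | monomial s c =>
      rw [grade_monomial, AddMonoidAlgebra.coeff_single, Finsupp.sum_single_index (by simp)]
      rw [show MvPolynomial.monomial s c = c • MvPolynomial.monomial s (1 : R) by
        rw [MvPolynomial.smul_monomial, smul_eq_mul, mul_one], map_smul, ge_monomial]
      split_ifs <;> simp
    | add f g hf hg =>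
      rw [map_add, map_add, hf, hg, AddMonoidAlgebra.coeff_add,
        Finsupp.sum_add_index' (fun n => by simp) (fun n c c' => by split_ifs <;> simp)]
  refine ⟨(grade w x).coeff.support.filter (m ≤ ·), ?_⟩
  rw [key, Finsupp.sum, Finset.sum_filter]
  rfl

/-- Products of at most `d` variables. -/
noncomputable def degLE (d : ℕ) : Submodule R (MvPolynomial (X × X) R) :=
  Submodule.span R (insert 1 (Set.range MvPolynomial.X)) ^ d

theorem degLE_fg (d : ℕ) : (degLE (R := R) (X := X) d).FG :=
  Submodule.FG.pow (Submodule.fg_span ((Set.finite_range _).insert 1)) d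

theorem exists_mem_degLE (f : MvPolynomial (X × X) R) : ∃ d, f ∈ degLE d := by
  have h1 : ∀ d, (1 : MvPolynomial (X × X) R) ∈ degLE d := fun d => by
    unfold degLE
    simpa using Submodule.pow_mem_pow _ (Submodule.subset_span (R := R) (Set.mem_insert (1 : MvPolynomial (X × X) R) (Set.range MvPolynomial.X))) d
  have hmono : ∀ {d e : ℕ}, d ≤ e → degLE (R := R) (X := X) d ≤ degLE e := fun {d e} hde x hx => by
    obtain ⟨c, rfl⟩ := Nat.exists_eq_add_of_le hde
    have h := Submodule.mul_mem_mul hx (h1 c)
    unfold degLE at h ⊢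
    rw [mul_one, ← pow_add] at h
    exact h
  induction f using MvPolynomial.induction_on with
  | C a =>
    refine ⟨0, ?_⟩
    rw [show MvPolynomial.C a = a • (1 : MvPolynomial (X × X) R) by
      rw [MvPolynomial.smul_eq_C_mul, mul_one]]
    exact Submodule.smul_mem _ _ (h1 0)
  | add f g hf hg =>
    obtain ⟨d, hd⟩ := hf
    obtain ⟨e, he⟩ := hg
    exact ⟨max d e, add_mem (hmono (le_max_left d e) hd) (hmono (le_max_right d e) he)⟩
  | mul_X f p hf =>
    obtain ⟨d, hd⟩ := hf
    refine ⟨d + 1, ?_⟩
    rw [degLE, pow_succ]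
    exact Submodule.mul_mem_mul hd
      (Submodule.subset_span (Set.mem_insert_of_mem _ (Set.mem_range_self p)))

theorem subst_degLE (N : Matrix X X R) (d : ℕ) {x : MvPolynomial (X × X) R} (hx : x ∈ degLE d) :
    subst N x ∈ degLE d := by
  refine (Submodule.map_le_iff_le_comap (f := (subst N).toLinearMap)).1 ?_ hx
  rw [degLE, Submodule.map_pow]
  refine pow_le_pow_left' ?_ d
  rw [Submodule.map_span_le]
  rintro _ (rfl | ⟨p, rfl⟩)
  · exact Submodule.subset_span (Or.inl (map_one (subst N)))
  · show subst N (MvPolynomial.X p) ∈ _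
    rw [subst, MvPolynomial.aeval_X]
    refine sum_mem fun j _ => ?_
    rw [← MvPolynomial.smul_eq_C_mul]
    exact Submodule.smul_mem _ _ (Submodule.subset_span (Or.inr (Set.mem_range_self _)))

theorem degLE_eq_span (d : ℕ) : ∃ S : Set ((X × X) →₀ ℕ),
    degLE (R := R) (X := X) d = Submodule.span R ((fun s => MvPolynomial.monomial s 1) '' S) := by
  induction d with
  | zero =>
    refine ⟨{0}, ?_⟩
    rw [degLE, pow_zero, Submodule.one_eq_span, Set.image_singleton]
    rfl
  | succ d ih =>
    obtain ⟨S, hS⟩ := ih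
    refine ⟨S + insert 0 (Set.range fun p : X × X => Finsupp.single p 1), ?_⟩
    rw [degLE, pow_succ, ← degLE, hS, Submodule.span_mul_span]
    congr 1
    ext x
    constructor
    · rintro ⟨_, ⟨s, hs, rfl⟩, y, hy, rfl⟩
      obtain ⟨t, ht, rfl⟩ : ∃ t ∈ insert (0 : (X × X) →₀ ℕ) (Set.range fun p : X × X => Finsupp.single p 1),
          y = MvPolynomial.monomial t 1 := by
        rcases hy with rfl | ⟨p, rfl⟩
        · exact ⟨0, Or.inl rfl, rfl⟩
        · exact ⟨_, Or.inr ⟨p, rfl⟩, rfl⟩
      exact ⟨s + t, Set.add_mem_add hs ht, by simp [MvPolynomial.monomial_mul]⟩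
    · rintro ⟨_, ⟨s, hs, t, ht, rfl⟩, rfl⟩
      refine ⟨_, ⟨s, hs, rfl⟩, MvPolynomial.monomial t 1, ?_, by simp [MvPolynomial.monomial_mul]⟩
      rcases ht with rfl | ⟨p, rfl⟩
      · exact Or.inl rfl
      · exact Or.inr ⟨p, rfl⟩

theorem ge_degLE (m : ℤ) (d : ℕ) {x : MvPolynomial (X × X) R} (hx : x ∈ degLE d) :
    ge w m x ∈ degLE d := by
  obtain ⟨S, hS⟩ := degLE_eq_span (R := R) (X := X) d
  rw [hS] at hx ⊢
  refine Submodule.mem_comap.1 ((Submodule.span_le (p := Submodule.comap (ge w m) _)).2 ?_ hx)
  rintro _ ⟨s, hs, rfl⟩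
  show ge w m (MvPolynomial.monomial s 1) ∈ Submodule.span R _
  rw [ge_monomial]
  split_ifs
  · exact Submodule.subset_span ⟨s, hs, rfl⟩
  · exact zero_mem _

theorem comp_degLE (n : ℤ) (d : ℕ) {x : MvPolynomial (X × X) R} (hx : x ∈ degLE d) :
    comp w n x ∈ degLE d := by
  obtain ⟨S, hS⟩ := degLE_eq_span (R := R) (X := X) d
  rw [hS] at hx ⊢
  refine Submodule.mem_comap.1 ((Submodule.span_le (p := Submodule.comap (comp w n) _)).2 ?_ hx)
  rintro _ ⟨s, hs, rfl⟩
  show comp w n (MvPolynomial.monomial s 1) ∈ Submodule.span R _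
  rw [comp_monomial]
  split_ifs
  · exact Submodule.subset_span ⟨s, hs, rfl⟩
  · exact zero_mem _

open LaurentPolynomial in
/-- **Gauss decomposition stabilises a stable kernel.** -/
theorem aeval_lower_eq_zero {Q : Type u} [CommRing Q] [Algebra R Q]
    (π : MvPolynomial (X × X) R →ₐ[R] Q)
    (hcomp : ∀ f, π f = 0 → ∀ n, π (comp w n f) = 0)
    {M U B U' : Matrix X X R} (hM : ∀ f, π f = 0 → π (subst M f) = 0)
    (hUB : U = M * B) (hU : Lower w U) (hB : Upper w B) (hU' : U * U' = 1)
    (ε : Q →ₐ[R] R) (hε : ∀ p : X × X, ε (π (MvPolynomial.X p)) = if p.1 = p.2 then 1 else 0)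
    {f : MvPolynomial (X × X) R} (hf : π f = 0) :
    MvPolynomial.aeval (fun p : X × X => U p.1 p.2) f = 0 := by
  classical
  let ev := MvPolynomial.aeval (R := R) fun p : X × X => U p.1 p.2
  have hev : ∀ g, ε (π (subst U g)) = ev g := fun g => by
    refine AlgHom.congr_fun (MvPolynomial.algHom_ext (f := (ε.comp π).comp (subst U)) (g := ev) fun p => ?_) g
    simp [ev, subst, hε]
  have hge : ∀ m g, π g = 0 → π (ge w m g) = 0 := fun m g hg => by
    obtain ⟨S, hS⟩ := ge_eq_sum w m g
    rw [hS, map_sum]
    exact Finset.sum_eq_zero fun n _ => hcomp g hg n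
  have main : ∀ m g, g ∈ monos w {m} → π g = 0 → π (subst U g) = 0 := by
    intro m g hgm hg
    obtain ⟨d, hd⟩ := exists_mem_degLE g
    let W := degLE (R := R) (X := X) d
    haveI : Module.Finite R W := Module.Finite.iff_fg.2 (degLE_fg d)
    let Φ0 : MvPolynomial (X × X) R →ₗ[R] MvPolynomial (X × X) R :=
      (subst M).toLinearMap ∘ₗ ge w m + (LinearMap.id - ge w m)
    let Φ : W →ₗ[R] W := Φ0.restrict (p := W) (q := W) fun x hx =>
      add_mem (subst_degLE M d (ge_degLE w m d hx)) (sub_mem hx (ge_degLE w m d hx))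
    let K : Submodule R W := LinearMap.ker (π.toLinearMap ∘ₗ W.subtype)
    have hK : K ≤ K.comap Φ := fun x (hx : π x.1 = 0) => by
      show π (subst M (ge w m x.1) + (x.1 - ge w m x.1)) = 0
      rw [map_add, map_sub, hM _ (hge m _ hx), hx, hge m _ hx]
      simp
    have hsplit : ∀ y z, y ∈ monos w (Set.Ici m) → z ∈ monos w (Set.Iio m) →
        Φ0 (y + z) = subst M y + z := fun y z hy hz => by
      show subst M (ge w m (y + z)) + (y + z - ge w m (y + z)) = _
      rw [map_add, ge_of_mem w hy, ge_of_mem_lt w hz, add_zero, add_sub_cancel_left]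
    have hsur : Function.Surjective (K.mapQ K Φ hK) := by
      intro v
      obtain ⟨v, rfl⟩ := Submodule.mkQ_surjective K v
      let v' := subst U' v.1
      have hv'W : v' ∈ W := subst_degLE U' d v.2
      obtain ⟨ha, hb⟩ := ge_spec w m v'
      let y := subst B (ge w m v')
      let z := subst U (v' - ge w m v')
      have hy : y ∈ monos w (Set.Ici m) := subst_upper_mem w hB ha
      have hz : z ∈ monos w (Set.Iio m) := subst_lower_mem w hU hb
      have hyz : y + z ∈ W := add_mem (subst_degLE B d (ge_degLE w m d hv'W))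
        (subst_degLE U d (sub_mem hv'W (ge_degLE w m d hv'W)))
      refine ⟨Submodule.Quotient.mk ⟨y + z, hyz⟩, ?_⟩
      rw [Submodule.mapQ_apply, Submodule.mkQ_apply]
      congr 1
      refine Subtype.ext ((hsplit y z hy hz).trans ?_)
      rw [subst_subst, ← hUB, ← map_add, add_sub_cancel, subst_subst, hU', subst_one]
    have hinj := OrzechProperty.injective_of_surjective_endomorphism _ hsur
    let y := subst B g
    let z := g - subst U g
    have hgI : g ∈ monos w (Set.Ici m) := by
      refine Submodule.span_mono ?_ hgm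
      rintro _ ⟨t, ht, rfl⟩
      exact ⟨t, le_of_eq (Set.mem_singleton_iff.1 ht).symm, rfl⟩
    have hy : y ∈ monos w (Set.Ici m) := subst_upper_mem w hB hgI
    have hz : z ∈ monos w (Set.Iio m) := subst_lower_sub_mem w hU hgm
    have hyz : y + z ∈ W := add_mem (subst_degLE B d hd) (sub_mem hd (subst_degLE U d hd))
    have hPhi : Φ0 (y + z) = g := by
      rw [hsplit y z hy hz, subst_subst, ← hUB, add_sub_cancel]
    have h0 : (Submodule.Quotient.mk ⟨y + z, hyz⟩ : W ⧸ K) = 0 := by
      apply hinj
      rw [map_zero, Submodule.mapQ_apply, Submodule.Quotient.mk_eq_zero]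
      show π (Φ0 (y + z)) = 0
      rw [hPhi, hg]
    rw [Submodule.Quotient.mk_eq_zero] at h0
    have h1 : π (ge w m (y + z)) = 0 := hge m _ h0
    rw [map_add, ge_of_mem w hy, ge_of_mem_lt w hz, add_zero] at h1
    rw [hUB, ← subst_subst]
    exact hM y h1
  have h2 : ∀ n, ev (comp w n f) = 0 := fun n => by
    rw [← hev, main n _ (comp_mem w n f) (hcomp f hf n), map_zero]
  let e1 : R[T;T⁻¹] →ₐ[R] R := AddMonoidAlgebra.lift R R ℤ 1
  have h3 : (e1.comp ((AddMonoidAlgebra.mapAlgHom ℤ ev).comp (grade w))) = ev := by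
    refine MvPolynomial.algHom_ext fun p => ?_
    simp only [AlgHom.comp_apply, grade, MvPolynomial.aeval_X, ← LaurentPolynomial.single_eq_C_mul_T,
      AddMonoidAlgebra.mapAlgHom_single, e1]
    simp [ev, -LaurentPolynomial.single_eq_C_mul_T]
  have h4 : AddMonoidAlgebra.mapAlgHom ℤ ev (grade w f) = 0 := LaurentPolynomial.ext fun n => by
    rw [AddMonoidAlgebra.coeff_mapAlgHom]
    exact h2 n
  show ev f = 0
  rw [← h3, AlgHom.comp_apply, AlgHom.comp_apply, h4, map_zero]

end Poly

end Groth.Agent.DynLib41.Gauss
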