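import Groth.Agent.DynLib41.MatPoints
import Groth.Agent.DynLib41.Gauss
import Mathlib.AlgebraicGeometry.OpenImmersion
import Mathlib.AlgebraicGeometry.AffineScheme
import Mathlib.RingTheory.Localization.Away.Basic
import Mathlib.RingTheory.Adjoin.FG

/-!
# The big cell `U(-λ) × P(λ)`
-/

universe u

open LaurentPolynomial TensorProduct CategoryTheory AlgebraicGeometry
open WithConv

namespace Groth.Agent.DynLib41

variable {k : Type u} [CommRing k] {A : Type u} [CommRing A] [HopfAlgebra k A]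
variable {R S : Type u} [CommRing R] [Algebra k R] [CommRing S] [Algebra k S]
variable {lam lamNeg : A →ₐc[k] k[T;T⁻¹]}
variable {X : Type} [Fintype X] [DecidableEq X] {w : X → ℤ} {a : X → X → A}

/-- `R[X_ij] → R ⊗ A`. -/
noncomputable def coordMap (k : Type u) [CommRing k] {A : Type u} [CommRing A] [Algebra k A] {X : Type} (R : Type u) [CommRing R] [Algebra k R] (a : X → X → A) :
    MvPolynomial (X × X) R →ₐ[R] R ⊗[k] A :=
  MvPolynomial.aeval fun p => (1 : R) ⊗ₜ[k] a p.1 p.2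

namespace IsWeightMatrix

variable (h : IsWeightMatrix lam w a)
include h

theorem coordMap_comp_eq_zero {f : MvPolynomial (X × X) R} (hf : coordMap k R a f = 0) (n : ℤ) :
    coordMap k R a (Gauss.comp w n f) = 0 := by
  let Q := R ⊗[k] A
  let incl : A →ₐ[k] Q := Algebra.TensorProduct.includeRight
  let ψ : WithConv (A →ₐ[k] Q[T;T⁻¹]) := post (const Q) (toConv incl) * Lam lam Q
  let τ : Q →ₐ[R] Q[T;T⁻¹] := Algebra.TensorProduct.lift (Algebra.ofId R Q[T;T⁻¹]) ψ.ofConv
    fun x y => Commute.all _ _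
  have hψ : ∀ i l, ψ.ofConv (a i l) =
      LaurentPolynomial.C ((1 : R) ⊗ₜ[k] a i l) * LaurentPolynomial.T (w l) := fun i l => by
    rw [← ptMat_apply (a := a) ψ, h.mat_mul, h.mat_Lam, Matrix.mul_diagonal]
    rfl
  have key : (AddMonoidAlgebra.mapAlgHom ℤ (coordMap k R a)).comp (Gauss.grade w) =
      τ.comp (coordMap k R a) := by
    refine MvPolynomial.algHom_ext fun p => ?_
    have hτ : ∀ x : A, τ ((1 : R) ⊗ₜ[k] x) = ψ.ofConv x := fun x =>
      (Algebra.TensorProduct.lift_tmul _ _ _ 1 x).trans (by rw [map_one, one_mul])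
    simp only [AlgHom.comp_apply, Gauss.grade, coordMap, MvPolynomial.aeval_X, hτ, hψ]
    simp [← LaurentPolynomial.single_eq_C_mul_T]
  have h2 := congrArg (fun z : Q[T;T⁻¹] => z.coeff n) (AlgHom.congr_fun key f)
  simp only [AlgHom.comp_apply, hf, map_zero, AddMonoidAlgebra.coeff_mapAlgHom] at h2
  exact h2

theorem coordMap_subst_eq_zero (g : WithConv (A →ₐ[k] R)) {f : MvPolynomial (X × X) R}
    (hf : coordMap k R a f = 0) : coordMap k R a (Gauss.subst (ptMat a g) f) = 0 := by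
  let Q := R ⊗[k] A
  let ψ : WithConv (A →ₐ[k] Q) := toConv Algebra.TensorProduct.includeRight *
    post (Algebra.TensorProduct.includeLeft : R →ₐ[k] Q) g
  let ρ : Q →ₐ[R] Q := Algebra.TensorProduct.lift (Algebra.ofId R Q) ψ.ofConv
    fun x y => Commute.all _ _
  have key : (coordMap k R a).comp (Gauss.subst (ptMat a g)) = ρ.comp (coordMap k R a) := by
    refine MvPolynomial.algHom_ext fun p => ?_
    have hρ : ∀ x : A, ρ ((1 : R) ⊗ₜ[k] x) = ψ.ofConv x := fun x =>
      (Algebra.TensorProduct.lift_tmul _ _ _ 1 x).trans (by rw [map_one, one_mul])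
    simp only [AlgHom.comp_apply, Gauss.subst, coordMap, MvPolynomial.aeval_X, hρ,
      map_sum, map_mul, MvPolynomial.aeval_C, Algebra.TensorProduct.algebraMap_apply]
    rw [← ptMat_apply (a := a) ψ, h.mat_mul, Matrix.mul_apply]
    refine Finset.sum_congr rfl fun j _ => ?_
    rw [mul_comm]
    simp
    exact ((Algebra.TensorProduct.tmul_mul_tmul (1 : R) (g.ofConv (a j p.2)) (a p.1 j) (1 : A)).trans
      (by rw [one_mul, mul_one])).symm
  have h2 := AlgHom.congr_fun key f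
  simp only [AlgHom.comp_apply, hf, map_zero] at h2
  exact h2

theorem exists_point_of_lower {g : WithConv (A →ₐ[k] R)} {U B U' : Matrix X X R}
    (hUB : U = ptMat a g * B) (hU : Gauss.Lower w U) (hB : Gauss.Upper w B) (hU' : U * U' = 1) :
    ∃ u : WithConv (A →ₐ[k] R), ptMat a u = U := by
  let πk : MvPolynomial (X × X) k →ₐ[k] A := MvPolynomial.aeval fun p : X × X => a p.1 p.2
  have hπ : Function.Surjective πk := by
    rw [← AlgHom.range_eq_top, eq_top_iff, ← h.adjoin,
      Algebra.adjoin_range_eq_range_aeval]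
  let evU : MvPolynomial (X × X) k →ₐ[k] R := MvPolynomial.aeval fun p : X × X => U p.1 p.2
  let ε : R ⊗[k] A →ₐ[R] R := Algebra.TensorProduct.lift (AlgHom.id R R)
    ((Algebra.ofId k R).comp (Bialgebra.counitAlgHom k A)) fun x y => Commute.all _ _
  have hker : ∀ f, πk f = 0 → evU f = 0 := by
    intro f hf
    have h1 : coordMap k R a (MvPolynomial.map (algebraMap k R) f) =
        (Algebra.TensorProduct.includeRight : A →ₐ[k] R ⊗[k] A) (πk f) := by
      rw [coordMap, MvPolynomial.aeval_map_algebraMap]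
      exact (AlgHom.congr_fun (MvPolynomial.comp_aeval (R := k) (fun p : X × X => a p.1 p.2)
        (Algebra.TensorProduct.includeRight : A →ₐ[k] R ⊗[k] A)) f).symm
    rw [hf, map_zero] at h1
    have h2 := Gauss.aeval_lower_eq_zero w (coordMap k R a) (fun f hf n => h.coordMap_comp_eq_zero hf n)
      (fun f hf => h.coordMap_subst_eq_zero g hf) hUB hU hB hU' ε
      (fun p => by simp [ε, coordMap, h.counit]) h1
    rwa [MvPolynomial.aeval_map_algebraMap] at h2
  let u : A →ₐ[k] R := AlgHom.liftOfSurjective πk hπ evU hker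
  refine ⟨toConv u, Matrix.ext fun i j => ?_⟩
  rw [ptMat_apply]
  have := AlgHom.congr_fun (AlgHom.liftOfSurjective_comp πk hπ evU hker) (MvPolynomial.X (i, j))
  simpa [πk, evU] using this

theorem limIsOne_neg_iff (hneg : (lamNeg : A →ₐ[k] k[T;T⁻¹]) = Dyn.negParam k A lam)
    (u : WithConv (A →ₐ[k] R)) :
    Dyn.LimIsOne k A lamNeg R u.ofConv ↔ Gauss.Lower w (ptMat a u) := by
  rw [(h.neg hneg).limIsOne_iff]
  exact forall₂_congr fun i j => by simp

theorem upper_iff (p : WithConv (A →ₐ[k] R)) :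
    Dyn.LimExists k A lam R p.ofConv ↔ Gauss.Upper w (ptMat a p) :=
  h.limExists_iff p.ofConv

theorem isBig_of_decomp (hneg : (lamNeg : A →ₐ[k] k[T;T⁻¹]) = Dyn.negParam k A lam)
    {u p : WithConv (A →ₐ[k] R)} (hu : Dyn.LimIsOne k A lamNeg R u.ofConv)
    (hp : Dyn.LimExists k A lam R p.ofConv) : Gauss.IsBig w (ptMat a (u * p)) := by
  rw [h.mat_mul]
  have hp' : Dyn.LimExists k A lam R (p⁻¹).ofConv := by
    rw [limExists_iff_mem] at hp ⊢
    rw [WithConv.toConv_ofConv] at hp ⊢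
    rw [map_inv]
    exact inv_mem hp
  refine Gauss.isBig_mul w (U' := ptMat a u⁻¹) (P' := ptMat a p⁻¹) ((h.limIsOne_neg_iff hneg u).1 hu)
    ((h.upper_iff _).1 hp') ?_ ?_ <;> rw [← h.mat_mul, mul_inv_cancel, h.mat_one]

theorem exists_decomp (hneg : (lamNeg : A →ₐ[k] k[T;T⁻¹]) = Dyn.negParam k A lam)
    {g : WithConv (A →ₐ[k] R)} (hg : Gauss.IsBig w (ptMat a g)) :
    ∃ u p : WithConv (A →ₐ[k] R), u * p = g ∧ Dyn.LimIsOne k A lamNeg R u.ofConv ∧
      Dyn.LimExists k A lam R p.ofConv := by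
  obtain ⟨U, B, hUB, hU, hB, hUdet, hBdet, hBinv⟩ := Gauss.exists_decomp w hg
  obtain ⟨u, hu⟩ := h.exists_point_of_lower hUB hU hB (Matrix.mul_nonsing_inv _ hUdet)
  refine ⟨u, u⁻¹ * g, mul_inv_cancel_left u g, (h.limIsOne_neg_iff hneg u).2 (hu.symm ▸ hU), ?_⟩
  rw [h.upper_iff, h.mat_mul]
  have : ptMat a u⁻¹ * ptMat a g = B⁻¹ := by
    refine (Matrix.inv_eq_left_inv ?_).symm
    rw [Matrix.mul_assoc, ← hUB, ← hu, h.mat_inv]
  rwa [this]

theorem decomp_unique (hneg : (lamNeg : A →ₐ[k] k[T;T⁻¹]) = Dyn.negParam k A lam)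
    {u u' p p' : WithConv (A →ₐ[k] R)} (hu : Dyn.LimIsOne k A lamNeg R u.ofConv)
    (hu' : Dyn.LimIsOne k A lamNeg R u'.ofConv) (hp : Dyn.LimExists k A lam R p.ofConv)
    (hp' : Dyn.LimExists k A lam R p'.ofConv) (e : u * p = u' * p') : u = u' ∧ p = p' := by
  have e' : u'⁻¹ * u = p' * p⁻¹ := by rw [eq_mul_inv_iff_mul_eq, mul_assoc, e, inv_mul_cancel_left]
  have h1 : Dyn.LimIsOne k A lamNeg R (u'⁻¹ * u).ofConv := by
    rw [limIsOne_iff_mem, WithConv.toConv_ofConv] at hu hu' ⊢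
    rw [map_mul, map_inv]
    exact mul_mem (inv_mem hu') hu
  have h2 : Dyn.LimExists k A lam R (u'⁻¹ * u).ofConv := by
    rw [e']
    rw [limExists_iff_mem, WithConv.toConv_ofConv] at hp hp' ⊢
    rw [map_mul, map_inv]
    exact mul_mem hp' (inv_mem hp)
  have hz : u'⁻¹ * u = 1 := by
    refine h.mat_injective (Matrix.ext fun i j => ?_)
    rw [h.mat_one, Matrix.one_apply]
    rcases le_or_gt (w j) (w i) with hij | hij
    · exact (h.limIsOne_neg_iff hneg _).1 h1 i j hij
    · rw [(h.upper_iff _).1 h2 i j hij, if_neg (fun e => (ne_of_lt hij) (congrArg w e))]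
  refine ⟨(inv_mul_eq_one.1 hz).symm, ?_⟩
  rw [hz] at e'
  exact (mul_inv_eq_one.1 e'.symm).symm

end IsWeightMatrix

/-- The product of the universal points of `U(-λ)` and `P(λ)`. -/
noncomputable def cellMap (Jm Jp : Ideal A) : A →ₐ[k] (A ⧸ Jm) ⊗[k] (A ⧸ Jp) :=
  (Algebra.TensorProduct.map (Ideal.Quotient.mkₐ k Jm) (Ideal.Quotient.mkₐ k Jp)).comp
    (Bialgebra.comulAlgHom k A)

theorem cellMap_eq (Jm Jp : Ideal A) :
    toConv (cellMap (k := k) Jm Jp) =
      toConv (Algebra.TensorProduct.includeLeft.comp (Ideal.Quotient.mkₐ k Jm)) *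
        toConv (Algebra.TensorProduct.includeRight.comp (Ideal.Quotient.mkₐ k Jp)) := by
  apply WithConv.ofConv_injective
  ext x
  rw [AlgHom.convMul_def]
  simp only [cellMap, AlgHom.comp_apply, Bialgebra.comulAlgHom_apply]
  induction Coalgebra.comul (R := k) x using TensorProduct.induction_on with
  | zero => simp
  | tmul p q => simp
  | add p q hp hq => simp only [map_add, hp, hq]

/-- The equation of the big cell. -/
noncomputable def cellFun (w : X → ℤ) (a : X → X → A) : A :=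
  ∏ l, (Gauss.selMat w (w l) (Matrix.of a)).det

theorem isUnit_map_cellFun_iff (g : A →ₐ[k] R) :
    IsUnit (g (cellFun w a)) ↔ Gauss.IsBig w (ptMat a (toConv g)) := by
  rw [cellFun, map_prod, IsUnit.prod_iff]
  have : ∀ l, g (Gauss.selMat w (w l) (Matrix.of a)).det =
      (Gauss.selMat w (w l) (ptMat a (toConv g))).det := fun l => by
    rw [AlgHom.map_det]
    congr 1
    ext i j
    simp only [AlgHom.mapMatrix_apply, Matrix.map_apply, Gauss.selMat, Matrix.of_apply, ptMat_apply,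
      apply_ite g, map_one, map_zero]
  exact ⟨fun H l => this l ▸ H l (Finset.mem_univ l), fun H l _ => (this l).symm ▸ H l⟩

theorem IsWeightMatrix.exists_equiv_away_cellFun (h : IsWeightMatrix lam w a)
    (hneg : (lamNeg : A →ₐ[k] k[T;T⁻¹]) = Dyn.negParam k A lam) {Jp Jm : Ideal A}
    (hp : Dyn.Represents k A Jp (fun R _ _ g => Dyn.LimExists k A lam R g))
    (hm : Dyn.Represents k A Jm (fun R _ _ g => Dyn.LimIsOne k A lamNeg R g)) :
    ∃ (e : Localization.Away (cellFun w a) ≃ₐ[k] (A ⧸ Jm) ⊗[k] (A ⧸ Jp)),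
      ∀ x, e (algebraMap A _ x) = cellMap (k := k) Jm Jp x := by
  let C := (A ⧸ Jm) ⊗[k] (A ⧸ Jp)
  let φ : A →ₐ[k] C := cellMap Jm Jp
  let f := cellFun w a
  let u0 : WithConv (A →ₐ[k] C) :=
    toConv (Algebra.TensorProduct.includeLeft.comp (Ideal.Quotient.mkₐ k Jm))
  let p0 : WithConv (A →ₐ[k] C) :=
    toConv (Algebra.TensorProduct.includeRight.comp (Ideal.Quotient.mkₐ k Jp))
  have hu0 : Dyn.LimIsOne k A lamNeg C u0.ofConv :=
    (hm C _).1 fun x hx => by simp [u0, Ideal.Quotient.eq_zero_iff_mem.2 hx]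
  have hp0 : Dyn.LimExists k A lam C p0.ofConv :=
    (hp C _).1 fun x hx => by simp [p0, Ideal.Quotient.eq_zero_iff_mem.2 hx]
  have hf : IsUnit (φ f) := by
    rw [isUnit_map_cellFun_iff, show toConv φ = u0 * p0 from cellMap_eq Jm Jp]
    exact h.isBig_of_decomp hneg hu0 hp0
  let L := Localization.Away f
  let g0 : A →ₐ[k] L := IsScalarTower.toAlgHom k A L
  obtain ⟨u, p, hup, hu, hpp⟩ := h.exists_decomp hneg
    ((isUnit_map_cellFun_iff g0).1 (IsLocalization.Away.algebraMap_isUnit (S := L) f))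
  let ub : A ⧸ Jm →ₐ[k] L := Ideal.Quotient.liftₐ Jm u.ofConv ((hm L _).2 hu)
  let pb : A ⧸ Jp →ₐ[k] L := Ideal.Quotient.liftₐ Jp p.ofConv ((hp L _).2 hpp)
  let ψ : C →ₐ[k] L := Algebra.TensorProduct.lift ub pb fun x y => Commute.all _ _
  have hψu : post ψ u0 = u := by
    apply WithConv.ofConv_injective
    ext x
    show ψ (Ideal.Quotient.mk Jm x ⊗ₜ[k] (1 : A ⧸ Jp)) = _
    refine (Algebra.TensorProduct.lift_tmul _ _ _ _ _).trans ?_
    rw [map_one, mul_one]
    rfl
  have hψp : post ψ p0 = p := by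
    apply WithConv.ofConv_injective
    ext x
    show ψ ((1 : A ⧸ Jm) ⊗ₜ[k] Ideal.Quotient.mk Jp x) = _
    refine (Algebra.TensorProduct.lift_tmul _ _ _ _ _).trans ?_
    rw [map_one, one_mul]
    rfl
  have hψφ : ψ.comp φ = g0 := by
    have h1 : post ψ (toConv φ) = toConv g0 := by
      rw [show toConv φ = u0 * p0 from cellMap_eq Jm Jp, map_mul, hψu, hψp, hup]
    exact congrArg WithConv.ofConv h1
  let φf : L →ₐ[k] C := IsLocalization.liftAlgHom (M := Submonoid.powers f) (f := φ) fun y => by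
    obtain ⟨n, hn⟩ := y.2
    rw [← hn, map_pow]
    exact hf.pow n
  have hφf : φf.comp g0 = φ := by
    ext x
    simp [φf, g0]
  have e1 : ψ.comp φf = AlgHom.id k L := by
    apply IsLocalization.algHom_ext (Submonoid.powers f)
    ext x
    show ψ (φf (g0 x)) = g0 x
    rw [← AlgHom.comp_apply φf g0, hφf, ← AlgHom.comp_apply, hψφ]
  have e2 : φf.comp ψ = AlgHom.id k C := by
    have h1 : post φf u * post φf p = u0 * p0 := by
      rw [← map_mul, hup, ← cellMap_eq]
      exact congrArg toConv hφf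
    have hu1 : Dyn.LimIsOne k A lamNeg C (post φf u).ofConv :=
      (hm C _).1 fun x hx => by
        rw [post_ofConv, (hm L _).2 hu x hx, map_zero]
    have hp1 : Dyn.LimExists k A lam C (post φf p).ofConv :=
      (hp C _).1 fun x hx => by
        rw [post_ofConv, (hp L _).2 hpp x hx, map_zero]
    obtain ⟨hu2, hp2⟩ := h.decomp_unique hneg hu1 hu0 hp1 hp0 h1
    refine Algebra.TensorProduct.ext ?_ ?_
    · refine Ideal.Quotient.algHom_ext k (AlgHom.ext fun x => ?_)
      rw [← hψu] at hu2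
      exact congrArg (fun z : WithConv (A →ₐ[k] C) => z.ofConv x) hu2
    · refine Ideal.Quotient.algHom_ext k (AlgHom.ext fun x => ?_)
      rw [← hψp] at hp2
      exact congrArg (fun z : WithConv (A →ₐ[k] C) => z.ofConv x) hp2
  let e : L ≃ₐ[k] C := AlgEquiv.ofAlgHom φf ψ e2 e1
  exact ⟨e, fun x => AlgHom.congr_fun hφf x⟩

theorem IsWeightMatrix.exists_equiv_away (h : IsWeightMatrix lam w a)
    (hneg : (lamNeg : A →ₐ[k] k[T;T⁻¹]) = Dyn.negParam k A lam) {Jp Jm : Ideal A}
    (hp : Dyn.Represents k A Jp (fun R _ _ g => Dyn.LimExists k A lam R g))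
    (hm : Dyn.Represents k A Jm (fun R _ _ g => Dyn.LimIsOne k A lamNeg R g)) :
    ∃ (f : A) (e : Localization.Away f ≃ₐ[k] (A ⧸ Jm) ⊗[k] (A ⧸ Jp)),
      ∀ x, e (algebraMap A _ x) = cellMap (k := k) Jm Jp x :=
  ⟨cellFun w a, h.exists_equiv_away_cellFun hneg hp hm⟩

theorem IsWeightMatrix.isOpenImmersion (h : IsWeightMatrix lam w a)
    (hneg : (lamNeg : A →ₐ[k] k[T;T⁻¹]) = Dyn.negParam k A lam) {Jp Jm : Ideal A}
    (hp : Dyn.Represents k A Jp (fun R _ _ g => Dyn.LimExists k A lam R g))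
    (hm : Dyn.Represents k A Jm (fun R _ _ g => Dyn.LimIsOne k A lamNeg R g)) :
    IsOpenImmersion (Spec.map (CommRingCat.ofHom (cellMap (k := k) Jm Jp).toRingHom)) := by
  obtain ⟨f, e, he⟩ := h.exists_equiv_away hneg hp hm
  have hfac : CommRingCat.ofHom (cellMap (k := k) Jm Jp).toRingHom =
      CommRingCat.ofHom (algebraMap A (Localization.Away f)) ≫ e.toRingEquiv.toCommRingCatIso.hom := by
    ext x
    exact (he x).symm
  rw [hfac, Spec.map_comp]
  infer_instance

end Groth.Agent.DynLib41
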