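import Groth.Agent.DynLib41.Basic
import Mathlib.RingTheory.Bialgebra.MonoidAlgebra

/-!
# Dynamic method: the ideals of `P(λ)` and `U(λ)`, and the grading identity
-/

universe u

open LaurentPolynomial TensorProduct
open WithConv

namespace Groth.Agent.DynLib41

variable {k : Type u} [CommRing k] {A : Type u} [CommRing A] [HopfAlgebra k A]
variable {R S : Type u} [CommRing R] [Algebra k R] [CommRing S] [Algebra k S]
variable (lam : A →ₐc[k] k[T;T⁻¹])

/-- The ideal of `P(λ)`. -/
def idealExists : Ideal A :=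
  Ideal.span {x | ∃ a : A, ∃ n < 0, x = coef lam n a}

/-- The ideal of `U(λ)`. -/
def idealIsOne : Ideal A :=
  idealExists lam ⊔ Ideal.span (Set.range fun a => coef lam 0 a - algebraMap k A (Coalgebra.counit a))

theorem idealExists_eq_zero_iff (g : A →ₐ[k] R) :
    (∀ x ∈ idealExists lam, g x = 0) ↔ ∀ a : A, ∀ n < 0, g (coef lam n a) = 0 := by
  constructor
  · exact fun h a n hn => h _ (Ideal.subset_span ⟨a, n, hn, rfl⟩)
  · intro h x hx
    have : idealExists lam ≤ RingHom.ker g := by
      refine Ideal.span_le.2 ?_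
      rintro _ ⟨a, n, hn, rfl⟩
      exact h a n hn
    exact this hx

theorem represents_idealExists :
    Dyn.Represents k A (idealExists lam) (fun R _ _ g => Dyn.LimExists k A lam R g) :=
  fun R _ _ g => (idealExists_eq_zero_iff lam g).trans (limExists_iff lam g).symm

theorem represents_idealIsOne :
    Dyn.Represents k A (idealIsOne lam) (fun R _ _ g => Dyn.LimIsOne k A lam R g) := by
  intro R _ _ g
  show (∀ a ∈ idealIsOne lam, g a = 0) ↔ Dyn.LimIsOne k A lam R g
  rw [limIsOne_iff, ← idealExists_eq_zero_iff]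
  constructor
  · intro h
    refine ⟨fun x hx => h x (Ideal.mem_sup_left hx), fun a => ?_⟩
    have h0 := h _ (Ideal.mem_sup_right (Ideal.subset_span ⟨a, rfl⟩))
    rw [map_sub, AlgHom.commutes, sub_eq_zero] at h0
    exact h0
  · rintro ⟨h1, h2⟩ x hx
    have : idealIsOne lam ≤ RingHom.ker g := by
      refine sup_le (fun y hy => h1 y hy) (Ideal.span_le.2 ?_)
      rintro _ ⟨a, rfl⟩
      simp [RingHom.mem_ker, h2 a]
    exact this hx

/-- An ideal representing a condition closed under unit, product and inverse is a Hopf ideal. -/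
theorem isHopfIdeal_of_represents {J : Ideal A}
    {P : ∀ (R : Type u) [CommRing R] [Algebra k R], (A →ₐ[k] R) → Prop}
    (hJ : Dyn.Represents k A J P)
    (h1 : P k ((Algebra.ofId k k).comp (Bialgebra.counitAlgHom k A)))
    (hmul : ∀ (R : Type u) [CommRing R] [Algebra k R] (f g : A →ₐ[k] R),
      P R f → P R g → P R (toConv f * toConv g).ofConv)
    (hinv : ∀ (R : Type u) [CommRing R] [Algebra k R] (f : A →ₐ[k] R),
      P R f → P R (f.comp (HopfAlgebra.antipodeAlgHom k A))) :
    J.IsHopfIdeal k := by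
  have hmk : ∀ a ∈ J, Ideal.Quotient.mkₐ k J a = 0 := fun a ha =>
    Ideal.Quotient.eq_zero_iff_mem.2 ha
  refine @Ideal.IsHopfIdeal.mk _ _ _ _ _ J ⟨fun z hz => ?_, fun z hz => ?_⟩ fun z hz => ?_
  · exact (hJ k _).2 h1 z hz
  · let C := (A ⧸ J) ⊗[k] (A ⧸ J)
    let g1 : A →ₐ[k] C := Algebra.TensorProduct.includeLeft.comp (Ideal.Quotient.mkₐ k J)
    let g2 : A →ₐ[k] C := Algebra.TensorProduct.includeRight.comp (Ideal.Quotient.mkₐ k J)
    have hg1 : ∀ a ∈ J, g1 a = 0 := fun a ha => by
      simp [g1, Ideal.Quotient.eq_zero_iff_mem.2 ha]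
    have hg2 : ∀ a ∈ J, g2 a = 0 := fun a ha => by
      simp [g2, Ideal.Quotient.eq_zero_iff_mem.2 ha]
    have h := (hJ C _).2 (hmul C g1 g2 ((hJ C g1).1 hg1) ((hJ C g2).1 hg2)) z hz
    show Algebra.TensorProduct.map (Ideal.Quotient.mkₐ k J) (Ideal.Quotient.mkₐ k J)
      (Coalgebra.comul z) = 0
    rw [AlgHom.convMul_def] at h
    refine Eq.trans ?_ h
    simp only [AlgHom.comp_apply, Bialgebra.comulAlgHom_apply]
    induction Coalgebra.comul (R := k) z using TensorProduct.induction_on with
    | zero => simp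
    | tmul a b =>
      simp [g1, g2]
      exact ((Algebra.TensorProduct.tmul_mul_tmul _ _ _ _).trans (by simp)).symm
    | add a b ha hb => simp only [map_add, ha, hb]
  · exact Ideal.Quotient.eq_zero_iff_mem.1
      ((hJ (A ⧸ J) _).2 (hinv (A ⧸ J) _ ((hJ (A ⧸ J) _).1 hmk)) z hz)

theorem isHopfIdeal_idealExists : (idealExists lam).IsHopfIdeal k := by
  refine isHopfIdeal_of_represents (represents_idealExists lam) ?_ ?_ ?_
  · show Dyn.LimExists k A lam k _
    rw [limExists_iff_mem, show (toConv ((Algebra.ofId k k).comp (Bialgebra.counitAlgHom k A))) =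
      (1 : WithConv (A →ₐ[k] k)) from rfl, map_one]
    exact one_mem _
  · intro R _ _ f g (hf : Dyn.LimExists k A lam R f) (hg : Dyn.LimExists k A lam R g)
    show Dyn.LimExists k A lam R _
    rw [limExists_iff_mem] at hf hg ⊢
    rw [WithConv.toConv_ofConv, map_mul]
    exact mul_mem hf hg
  · intro R _ _ f (hf : Dyn.LimExists k A lam R f)
    show Dyn.LimExists k A lam R _
    rw [limExists_iff_mem] at hf ⊢
    have : toConv (f.comp (HopfAlgebra.antipodeAlgHom k A)) = (toConv f)⁻¹ := rfl
    rw [this, map_inv]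
    exact inv_mem hf

theorem isHopfIdeal_idealIsOne : (idealIsOne lam).IsHopfIdeal k := by
  refine isHopfIdeal_of_represents (represents_idealIsOne lam) ?_ ?_ ?_
  · show Dyn.LimIsOne k A lam k _
    rw [limIsOne_iff_mem, show (toConv ((Algebra.ofId k k).comp (Bialgebra.counitAlgHom k A))) =
      (1 : WithConv (A →ₐ[k] k)) from rfl, map_one]
    exact one_mem _
  · intro R _ _ f g (hf : Dyn.LimIsOne k A lam R f) (hg : Dyn.LimIsOne k A lam R g)
    show Dyn.LimIsOne k A lam R _
    rw [limIsOne_iff_mem] at hf hg ⊢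
    rw [WithConv.toConv_ofConv, map_mul]
    exact mul_mem hf hg
  · intro R _ _ f (hf : Dyn.LimIsOne k A lam R f)
    show Dyn.LimIsOne k A lam R _
    rw [limIsOne_iff_mem] at hf ⊢
    have : toConv (f.comp (HopfAlgebra.antipodeAlgHom k A)) = (toConv f)⁻¹ := rfl
    rw [this, map_inv]
    exact inv_mem hf

/-- Evaluation at `T = 1`. -/
noncomputable def eval1 (R : Type u) [CommRing R] : R[T;T⁻¹] →ₐ[R] R :=
  AddMonoidAlgebra.lift R R ℤ 1

theorem eval1_C (r : R) : eval1 R (LaurentPolynomial.C r) = r :=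
  (eval1 R).commutes r

theorem eval1_T (n : ℤ) : eval1 R (LaurentPolynomial.T n) = 1 := by
  simp [eval1, LaurentPolynomial.T, -LaurentPolynomial.single_eq_C_mul_T]

theorem post_eval1_Lam :
    post ((eval1 R).restrictScalars k) (Lam lam R) = (1 : WithConv (A →ₐ[k] R)) := by
  have key : ((eval1 R).restrictScalars k).comp (mapL (Algebra.ofId k R)) =
      (Algebra.ofId k R).comp (Bialgebra.counitAlgHom k k[T;T⁻¹]) := by
    refine AddMonoidAlgebra.algHom_ext (fun n => ?_) (Subsingleton.elim _ _)
    simp [eval1, Algebra.ofId_apply, -LaurentPolynomial.single_eq_C_mul_T]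
  apply WithConv.ofConv_injective
  ext a
  refine (congrArg (fun f : k[T;T⁻¹] →ₐ[k] R => f (lam a)) key).trans ?_
  show algebraMap k R (Coalgebra.counit (lam a)) = algebraMap k R (Coalgebra.counit a)
  rw [CoalgHomClass.counit_comp_apply lam a]

theorem post_eval1_orbit (g : WithConv (A →ₐ[k] R)) :
    post ((eval1 R).restrictScalars k) (orbit lam R g) = g := by
  rw [orbit_apply, map_mul, map_mul, map_inv, post_eval1_Lam, post_post]
  have : ((eval1 R).restrictScalars k).comp (const R) = AlgHom.id k R := by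
    ext r
    exact eval1_C r
  rw [this, one_mul, inv_one, mul_one]
  rfl

/-- Inversion of the variable. -/
noncomputable abbrev invertL (R : Type u) [CommRing R] [Algebra k R] : R[T;T⁻¹] →ₐ[k] R[T;T⁻¹] :=
  (LaurentPolynomial.invert (R := R)).toAlgHom.restrictScalars k

theorem post_invertL_orbit (lamNeg : A →ₐc[k] k[T;T⁻¹])
    (hneg : (lamNeg : A →ₐ[k] k[T;T⁻¹]) = Dyn.negParam k A lam) (g : WithConv (A →ₐ[k] R)) :
    post (invertL R) (orbit lam R g) = orbit lamNeg R g := by
  have h1 : post (invertL R) (Lam lam R) = Lam lamNeg R := by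
    apply WithConv.ofConv_injective
    ext a n
    have ha : (lamNeg : A →ₐ[k] k[T;T⁻¹]) a = LaurentPolynomial.invert (lam a) := by
      rw [hneg]; rfl
    simp [Lam, Dyn.lamR] at ha ⊢
    rw [ha]
    simp
  rw [orbit_apply, orbit_apply, map_mul, map_mul, map_inv, h1, post_post]
  have : (invertL R).comp (const (k := k) R) = const R := by
    ext r n
    simp [const_apply]
  rw [this]

theorem coef_neg (lamNeg : A →ₐc[k] k[T;T⁻¹])
    (hneg : (lamNeg : A →ₐ[k] k[T;T⁻¹]) = Dyn.negParam k A lam) (n : ℤ) (a : A) :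
    coef lamNeg n a = coef lam (-n) a := by
  show (univOrbit lamNeg a).coeff n = _
  rw [univOrbit, ← post_invertL_orbit lam lamNeg hneg]
  simp [coef, univOrbit]

/-- `T ^ n ↦ T ^ n S ^ n`. -/
noncomputable def scaleT (R : Type u) [CommRing R] [Algebra k R] :
    R[T;T⁻¹] →ₐ[k] (R[T;T⁻¹])[T;T⁻¹] :=
  (AddMonoidAlgebra.lift R (R[T;T⁻¹])[T;T⁻¹] ℤ
    { toFun := fun n => AddMonoidAlgebra.single (Multiplicative.toAdd n)
        (AddMonoidAlgebra.single (Multiplicative.toAdd n) (1 : R))
      map_one' := rfl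
      map_mul' := fun m n => by
        simp [AddMonoidAlgebra.single_mul_single, toAdd_mul,
          -LaurentPolynomial.single_eq_C_mul_T] }).restrictScalars k

theorem scaleT_single (n : ℤ) (r : R) :
    scaleT (k := k) R (AddMonoidAlgebra.single n r) =
      AddMonoidAlgebra.single n (AddMonoidAlgebra.single n r) := by
  simp [scaleT, -LaurentPolynomial.single_eq_C_mul_T]

theorem coeff_scaleT (x : R[T;T⁻¹]) (n : ℤ) :
    (scaleT (k := k) R x).coeff n = AddMonoidAlgebra.single n (x.coeff n) := by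
  classical
  induction x using AddMonoidAlgebra.induction_linear with
  | zero => simp
  | add x y hx hy => simp [hx, hy]
  | single m r =>
    rw [scaleT_single]
    simp [AddMonoidAlgebra.coeff_single, Finsupp.single_apply,
      -LaurentPolynomial.single_eq_C_mul_T]
    split_ifs with h <;> simp [h]

theorem conj_conj {G : Type*} [Group G] (a b c : G) :
    a * (b * c * b⁻¹) * a⁻¹ = a * b * c * (a * b)⁻¹ := by simp [mul_assoc]

theorem Lam_mul_post_const_Lam :
    Lam lam R[T;T⁻¹] * post (const R[T;T⁻¹]) (Lam lam R) = post (scaleT R) (Lam lam R) := by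
  let α : k[T;T⁻¹] →ₐ[k] (R[T;T⁻¹])[T;T⁻¹] := mapL (Algebra.ofId k R[T;T⁻¹])
  let β : k[T;T⁻¹] →ₐ[k] (R[T;T⁻¹])[T;T⁻¹] := (const R[T;T⁻¹]).comp (mapL (Algebra.ofId k R))
  have key : (toConv α * toConv β).ofConv = (scaleT R).comp (mapL (Algebra.ofId k R)) := by
    refine AddMonoidAlgebra.algHom_ext (fun n => ?_) (Subsingleton.elim _ _)
    rw [AlgHom.convMul_def]
    have hT : Coalgebra.comul (R := k) (LaurentPolynomial.T n : k[T;T⁻¹]) =
        LaurentPolynomial.T n ⊗ₜ[k] LaurentPolynomial.T n := LaurentPolynomial.comul_T (R := k) n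
    simp only [LaurentPolynomial.T] at hT
    simp [hT, α, β, scaleT_single, Algebra.ofId_apply, AddMonoidAlgebra.single_mul_single,
      -LaurentPolynomial.single_eq_C_mul_T]
  apply WithConv.ofConv_injective
  have h := AlgHom.convMul_comp_bialgHom_distrib (toConv α) (toConv β) lam
  rw [key] at h
  exact h.symm

/-- Conjugating twice is conjugating by the product. -/
theorem orbit_orbit (g : WithConv (A →ₐ[k] R)) :
    orbit lam R[T;T⁻¹] (orbit lam R g) = post (scaleT R) (orbit lam R g) := by
  have hc : (scaleT (k := k) R).comp (const R) = (const R[T;T⁻¹]).comp (const R) := by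
    ext r
    simp [scaleT_single, -LaurentPolynomial.single_eq_C_mul_T]
  rw [orbit_apply lam (orbit lam R g), orbit_apply lam g, map_mul, map_mul, map_inv, map_mul,
    map_mul, map_inv, ← Lam_mul_post_const_Lam, post_post, post_post, hc]
  exact conj_conj _ _ _

/-- The grading identity. -/
theorem coef_coef (m n : ℤ) (a : A) :
    coef lam m (coef lam n a) = if m = n then coef lam n a else 0 := by
  classical
  have h := congrArg (fun f : WithConv (A →ₐ[k] (A[T;T⁻¹])[T;T⁻¹]) => (f.ofConv a).coeff n)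
    (orbit_orbit lam (R := A) (toConv (AlgHom.id k A)))
  simp only [orbit_coeff lam (orbit lam A (toConv (AlgHom.id k A))), post_ofConv,
    coeff_scaleT] at h
  have h2 := congrArg (fun x : A[T;T⁻¹] => x.coeff m) h
  simp only [AddMonoidAlgebra.coeff_single, Finsupp.single_apply] at h2
  rw [orbit_coeff lam, orbit_coeff lam] at h2
  simpa [eq_comm] using h2

end Groth.Agent.DynLib41
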