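import Groth.Agent.DynLib41.Weights
import Mathlib.Data.Matrix.Basic
import Mathlib.LinearAlgebra.Matrix.Block

/-!
# Points as matrices in weight coordinates
-/

universe u

open LaurentPolynomial TensorProduct
open WithConv

namespace Groth.Agent.DynLib41

variable {k : Type u} [CommRing k] {A : Type u} [CommRing A] [HopfAlgebra k A]
variable {R S : Type u} [CommRing R] [Algebra k R] [CommRing S] [Algebra k S]
variable {lam : A →ₐc[k] k[T;T⁻¹]}
variable {X : Type} [Fintype X] [DecidableEq X] {w : X → ℤ} {a : X → X → A}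

/-- The matrix of a point. -/
def ptMat (a : X → X → A) (g : WithConv (A →ₐ[k] R)) : Matrix X X R :=
  Matrix.of fun i j => g.ofConv (a i j)

omit [Fintype X] [DecidableEq X] in
@[simp] theorem ptMat_apply (g : WithConv (A →ₐ[k] R)) (i j : X) :
    ptMat a g i j = g.ofConv (a i j) := rfl

namespace IsWeightMatrix

variable (h : IsWeightMatrix lam w a)
include h

theorem mat_one : ptMat a (1 : WithConv (A →ₐ[k] R)) = 1 := by
  ext i j
  show algebraMap k R (Coalgebra.counit (a i j)) = _
  rw [h.counit, Matrix.one_apply]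
  split_ifs <;> simp

theorem mat_mul (f g : WithConv (A →ₐ[k] R)) : ptMat a (f * g) = ptMat a f * ptMat a g := by
  ext i j
  rw [Matrix.mul_apply]
  show (f * g).ofConv (a i j) = _
  rw [AlgHom.convMul_def]
  simp [h.comul]

theorem mat_injective : Function.Injective (ptMat (R := R) (k := k) a) := fun f g hfg => by
  apply WithConv.ofConv_injective
  refine AlgHom.ext_of_adjoin_eq_top h.adjoin ?_
  rintro _ ⟨⟨i, j⟩, rfl⟩
  exact congrFun (congrFun hfg i) j

theorem mat_inv (g : WithConv (A →ₐ[k] R)) : ptMat a g⁻¹ * ptMat a g = 1 := by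
  rw [← h.mat_mul, inv_mul_cancel, h.mat_one]

theorem mat_Lam : ptMat a (Lam lam R) = Matrix.diagonal fun i => LaurentPolynomial.T (w i) := by
  ext1 i j
  rw [Matrix.diagonal_apply]
  show mapL (Algebra.ofId k R) (lam (a i j)) = _
  rw [h.lam_eq]
  split_ifs <;> simp [LaurentPolynomial.T, -LaurentPolynomial.single_eq_C_mul_T]

theorem mat_Lam_inv :
    ptMat a (Lam lam R)⁻¹ = Matrix.diagonal fun i => LaurentPolynomial.T (-w i) := by
  have h1 := h.mat_inv (Lam lam R)
  have h2 : ptMat a (Lam lam R) * (Matrix.diagonal fun i => LaurentPolynomial.T (-w i)) =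
      (1 : Matrix X X R[T;T⁻¹]) := by
    rw [h.mat_Lam, Matrix.diagonal_mul_diagonal, ← Matrix.diagonal_one]
    congr 1
    funext i
    rw [← LaurentPolynomial.T_add, add_neg_cancel, LaurentPolynomial.T_zero]
  exact left_inv_eq_right_inv h1 h2

theorem orbit_entry (g : WithConv (A →ₐ[k] R)) (i j : X) :
    (orbit lam R g).ofConv (a i j) =
      LaurentPolynomial.C (g.ofConv (a i j)) * LaurentPolynomial.T (w i - w j) := by
  have := congrFun (congrFun (congrArg (fun z => z) (show ptMat a (orbit lam R g) = _ by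
    rw [orbit_apply, h.mat_mul, h.mat_mul, h.mat_Lam, h.mat_Lam_inv])) i) j
  rw [ptMat_apply] at this
  rw [this, Matrix.mul_diagonal, Matrix.diagonal_mul, sub_eq_add_neg, LaurentPolynomial.T_add,
    ptMat_apply, post_ofConv, const_apply]
  ring

theorem coef_entry (n : ℤ) (i j : X) :
    coef lam n (a i j) = if n = w i - w j then a i j else 0 := by
  have := congrArg (fun x : A[T;T⁻¹] => x.coeff n)
    (h.orbit_entry (R := A) (toConv (AlgHom.id k A)) i j)
  rw [← LaurentPolynomial.single_eq_C_mul_T, AddMonoidAlgebra.coeff_single, Finsupp.single_apply] at this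
  refine this.trans ?_
  simp [eq_comm]

theorem limExists_iff (g : A →ₐ[k] R) :
    Dyn.LimExists k A lam R g ↔ ∀ i j, w i < w j → g (a i j) = 0 := by
  rw [DynLib41.limExists_iff]
  constructor
  · intro H i j hij
    have := H (a i j) (w i - w j) (by omega)
    rwa [h.coef_entry, if_pos rfl] at this
  · intro H x
    let Sx : Subalgebra k A := (toL (k := k) R).range.comap (orbit lam R (toConv g)).ofConv
    have htop : Sx = ⊤ := by
      rw [eq_top_iff, ← h.adjoin]
      refine Algebra.adjoin_le ?_
      rintro _ ⟨⟨i, j⟩, rfl⟩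
      show (orbit lam R (toConv g)).ofConv (a i j) ∈ (toL (k := k) R).range
      rw [h.orbit_entry]
      rcases lt_or_ge (w i) (w j) with hij | hij
      · rw [show (toConv g).ofConv (a i j) = 0 from H i j hij, map_zero, zero_mul]
        exact zero_mem _
      · refine ⟨Polynomial.C (g (a i j)) * Polynomial.X ^ (w i - w j).toNat, ?_⟩
        show Polynomial.toLaurent _ = _
        rw [map_mul, Polynomial.toLaurent_C, Polynomial.toLaurent_X_pow,
          Int.toNat_of_nonneg (by omega)]
    intro n hn
    obtain ⟨p, hp⟩ : x ∈ Sx := htop ▸ Algebra.mem_top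
    rw [← conjOrbit_coeff lam g, conjOrbit_eq]
    exact (congrArg (fun z : R[T;T⁻¹] => z.coeff n) hp).symm.trans (coeff_toLaurent_of_neg p hn)

theorem limIsOne_iff (g : A →ₐ[k] R) :
    Dyn.LimIsOne k A lam R g ↔
      ∀ i j, w i ≤ w j → g (a i j) = if i = j then 1 else 0 := by
  have hε : ∀ i j, algebraMap k R (Coalgebra.counit (a i j)) = if i = j then 1 else 0 := fun i j => by
    rw [h.counit]; split_ifs <;> simp
  constructor
  · intro H i j hij
    obtain ⟨h1, h2⟩ := (DynLib41.limIsOne_iff lam g).1 H
    rcases hij.lt_or_eq with hlt | heq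
    · rw [if_neg (fun e => (ne_of_lt hlt) (congrArg w e))]
      have := h1 (a i j) (w i - w j) (by omega)
      rwa [h.coef_entry, if_pos rfl] at this
    · rw [← hε i j, ← h2 (a i j), h.coef_entry, if_pos (by omega)]
  · intro H
    obtain ⟨p, hp⟩ := (h.limExists_iff g).2 fun i j hij => by
      rw [H i j hij.le, if_neg (fun e => (ne_of_lt hij) (congrArg w e))]
    refine ⟨p, hp, AlgHom.ext_of_adjoin_eq_top h.adjoin ?_⟩
    rintro _ ⟨⟨i, j⟩, rfl⟩
    show eval0 (k := k) R (p (a i j)) = algebraMap k R (Coalgebra.counit (a i j))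
    rw [eval0_apply, ← coeff_toLaurent_natCast, hε]
    have := conjOrbit_coeff lam g (a i j) 0
    rw [← hp, h.coef_entry] at this
    refine this.trans ?_
    split_ifs with hw hij hij
    · rw [H i j (by omega), if_pos hij]
    · rw [H i j (by omega), if_neg hij]
    · exact absurd (congrArg w hij) (by omega)
    · exact map_zero g

omit h in
theorem neg (h : IsWeightMatrix lam w a) {lamNeg : A →ₐc[k] k[T;T⁻¹]}
    (hneg : (lamNeg : A →ₐ[k] k[T;T⁻¹]) = Dyn.negParam k A lam) :
    IsWeightMatrix lamNeg (-w) a where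
  comul := h.comul
  counit := h.counit
  adjoin := h.adjoin
  lam_eq i j := by
    show (lamNeg : A →ₐ[k] k[T;T⁻¹]) (a i j) = _
    rw [hneg]
    show LaurentPolynomial.invert (lam (a i j)) = _
    rw [h.lam_eq]
    split_ifs <;> simp

end IsWeightMatrix

end Groth.Agent.DynLib41
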