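import Groth.Agent.DynLib41.Ideals
import Groth.Agent.ComodRes41.Matrix
import Groth.Prelude.Def_ComodSub
set_option linter.style.haveILetI false

/-!
# Matrix coordinates diagonalizing a one-parameter subgroup
-/

universe u

open LaurentPolynomial TensorProduct
open WithConv

namespace Groth.Agent.DynLib41

variable {k : Type u} [CommRing k] {A : Type u} [CommRing A] [HopfAlgebra k A]

/-- A comultiplicative matrix of generators in which `λ` is diagonal with exponents `w`. -/
structure IsWeightMatrix (lam : A →ₐc[k] k[T;T⁻¹]) {X : Type} [Fintype X] [DecidableEq X]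
    (w : X → ℤ) (a : X → X → A) : Prop where
  comul : ∀ i j, Coalgebra.comul (R := k) (a i j) = ∑ l, a i l ⊗ₜ[k] a l j
  counit : ∀ i j, Coalgebra.counit (R := k) (a i j) = if i = j then 1 else 0
  lam_eq : ∀ i j, lam (a i j) = if i = j then LaurentPolynomial.T (w i) else 0
  adjoin : Algebra.adjoin k (Set.range fun p : X × X => a p.1 p.2) = ⊤

/-- A coefficient as a linear form. -/
noncomputable def coeffL (k : Type u) [CommRing k] (n : ℤ) : k[T;T⁻¹] →ₗ[k] k where
  toFun x := x.coeff n
  map_add' x y := by simp
  map_smul' r x := by simp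

theorem coeffL_mul_coeffL (n m : ℤ) (x : k[T;T⁻¹]) :
    LinearMap.mul' k k (TensorProduct.map (coeffL k n) (coeffL k m) (Coalgebra.comul (R := k) x)) =
      if n = m then x.coeff n else 0 := by
  classical
  induction x using LaurentPolynomial.induction_on' with
  | add x y hx hy =>
    simp only [map_add, hx, hy, AddMonoidAlgebra.coeff_add, Finsupp.add_apply]
    split_ifs <;> simp
  | C_mul_T j r =>
    rw [← LaurentPolynomial.smul_eq_C_mul, map_smul, LaurentPolynomial.comul_T, map_smul,
      TensorProduct.map_tmul, map_smul, LinearMap.mul'_apply]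
    show r • ((LaurentPolynomial.T j : k[T;T⁻¹]).coeff n * (LaurentPolynomial.T j : k[T;T⁻¹]).coeff m) =
      if n = m then (r • LaurentPolynomial.T j : k[T;T⁻¹]).coeff n else 0
    simp only [LaurentPolynomial.T_apply, AddMonoidAlgebra.coeff_smul, Finsupp.smul_apply]
    split_ifs <;> simp_all

theorem sum_coeff_eq_counit (x : k[T;T⁻¹]) {S : Finset ℤ} (hS : x.coeff.support ⊆ S) :
    ∑ n ∈ S, x.coeff n = Coalgebra.counit (R := k) x := by
  rw [← Finset.sum_subset hS fun n _ hn => Finsupp.notMem_support_iff.1 hn]
  conv_rhs => rw [← AddMonoidAlgebra.sum_coeff_single x]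
  rw [Finsupp.sum, map_sum]
  refine Finset.sum_congr rfl fun n _ => ?_
  simp [AddMonoidAlgebra.counit_single, -LaurentPolynomial.single_eq_C_mul_T]

variable (lam : A →ₐc[k] k[T;T⁻¹])

/-- The coefficient of `T ^ n` in `λ`, as a linear form. -/
noncomputable def lamForm (n : ℤ) : A →ₗ[k] k :=
  coeffL k n ∘ₗ (lam : A →ₐ[k] k[T;T⁻¹]).toLinearMap

theorem lamForm_apply (n : ℤ) (x : A) : lamForm lam n x = (lam x).coeff n := rfl

theorem lamForm_convMul (n m : ℤ) :
    (toConv (lamForm lam n) * toConv (lamForm lam m)).ofConv = if n = m then lamForm lam n else 0 := by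
  refine LinearMap.ext fun x => ?_
  rw [LinearMap.convMul_apply]
  have h := coeffL_mul_coeffL n m (lam x)
  rw [← CoalgHomClass.map_comp_comul_apply lam x, TensorProduct.map_map] at h
  refine h.trans ?_
  split_ifs <;> rfl

theorem sum_lamForm (x : A) {S : Finset ℤ} (hS : (lam x).coeff.support ⊆ S) :
    ∑ n ∈ S, lamForm lam n x = Coalgebra.counit (R := k) x :=
  (sum_coeff_eq_counit (lam x) hS).trans (CoalgHomClass.counit_comp_apply lam x)

theorem lam_eq_of_lamForm {d : ℕ} {w : Fin d → ℤ} {a : Fin d → Fin d → A} {i l : Fin d}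
    (h : ∀ n, lamForm lam n (a i l) = if n = w l ∧ i = l then 1 else 0) :
    lam (a i l) = if i = l then LaurentPolynomial.T (w i) else 0 := by
  refine LaurentPolynomial.ext fun n => ?_
  rw [← lamForm_apply, h]
  split_ifs <;> simp_all [LaurentPolynomial.T_apply] <;> omega

/-- Over a field, generators can be chosen in a weight matrix. -/
theorem exists_isWeightMatrix {k : Type u} [Field k] {A : Type u} [CommRing A] [HopfAlgebra k A]
    [Algebra.FiniteType k A] (lam : A →ₐc[k] k[T;T⁻¹]) :
    ∃ (d : ℕ) (w : Fin d → ℤ) (a : Fin d → Fin d → A), IsWeightMatrix lam w a := by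
  classical
  obtain ⟨s, hs⟩ := (inferInstance : Algebra.FiniteType k A).out
  obtain ⟨U, hUf, hsU, hU⟩ := ComodLib.exists_finite_subcomod_le (C := A) (k := k) s.finite_toSet
  letI cU : HopfRep.Comod k A U := ComodSub.Comod.restr inferInstance U hU
  haveI := hUf
  have hπ : ∀ n m (v : U), ComodLib.actF (lamForm lam n) (ComodLib.actF (lamForm lam m) v) =
      if n = m then ComodLib.actF (lamForm lam n) v else 0 := by
    intro n m v
    rw [← ComodLib.actF_convMul (toConv (lamForm lam n)) (toConv (lamForm lam m)), lamForm_convMul]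
    split_ifs
    · rfl
    · rw [ComodLib.actF_zero]; rfl
  have hact : ∀ {X : Type} [Fintype X] [DecidableEq X] (b : Module.Basis X k U) (n : ℤ) (l : X),
      ComodLib.actF (lamForm lam n) (b l) =
        ∑ i, lamForm lam n (ComodLib.matrixOf (A := A) b i l) • b i := by
    intro X _ _ b n l
    rw [ComodLib.actF_apply, ComodLib.coact_matrixOf b, map_sum]
    simp only [ComodLib.slice_tmul]
  let b0 := Module.finBasis k U
  have hN : ∃ N : Finset ℤ, ∀ i l,
      (lam (ComodLib.matrixOf (A := A) b0 i l)).coeff.support ⊆ N :=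
    ⟨Finset.univ.biUnion fun p : Fin _ × Fin _ =>
      (lam (ComodLib.matrixOf (A := A) b0 p.1 p.2)).coeff.support,
      fun i l x hx => Finset.mem_biUnion.2 ⟨(i, l), Finset.mem_univ _, hx⟩⟩
  obtain ⟨N, hN⟩ := hN
  have hsum : ∀ l, ∑ n ∈ N, ComodLib.actF (lamForm lam n) (b0 l) = b0 l := by
    intro l
    simp only [hact]
    rw [Finset.sum_comm]
    simp only [← Finset.sum_smul, sum_lamForm lam _ (hN _ l),
      (ComodRes41.isComodMatrix_matrixOf b0).counit]
    simp
  let Sset : Set U := {v | ∃ n, ComodLib.actF (lamForm lam n) v = v}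
  have hspan : Submodule.span k Sset = ⊤ := by
    rw [eq_top_iff, ← b0.span_eq, Submodule.span_le]
    rintro _ ⟨l, rfl⟩
    rw [← hsum l]
    exact sum_mem fun n _ => Submodule.subset_span ⟨n, by rw [hπ, if_pos rfl]⟩
  let b1 := Module.Basis.ofSpan hspan.ge
  haveI : Fintype ((linearIndepOn_empty k (id : U → U)).extend (Set.empty_subset Sset)) :=
    FiniteDimensional.fintypeBasisIndex b1
  let b := b1.reindex (Fintype.equivFin _)
  have hb : ∀ l, ∃ n, ComodLib.actF (lamForm lam n) (b l) = b l := fun l => by
    have h := Module.Basis.ofSpan_subset hspan.ge (Set.mem_range_self ((Fintype.equivFin _).symm l))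
    rw [Module.Basis.reindex_apply]
    exact h
  choose w hw using hb
  have ha := ComodRes41.isComodMatrix_matrixOf (A := A) b
  refine ⟨_, w, ComodLib.matrixOf (A := A) b, ha.comul, ha.counit,
    fun i l => lam_eq_of_lamForm lam fun n => ?_, ?_⟩
  · have h2 : ComodLib.actF (lamForm lam n) (b l) = if n = w l then b l else 0 := by
      conv_lhs => rw [← hw l]
      rw [hπ]
      split_ifs with h
      · subst h; exact hw l
      · rfl
    have h3 := congrArg (fun v => b.repr v i) ((hact b n l).symm.trans h2)
    simp only [map_sum, map_smul, Module.Basis.repr_self, Finsupp.coe_finsetSum, Finset.sum_apply,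
      Finsupp.smul_apply, Finsupp.single_apply, smul_eq_mul, mul_ite, mul_one, mul_zero,
      Finset.sum_ite_eq', Finset.mem_univ, if_true] at h3
    rw [h3]
    by_cases hn : n = w l <;> by_cases hil : i = l <;> simp [hn, hil, Ne.symm]
  · refine eq_top_iff.2 (hs ▸ Algebra.adjoin_le fun f hf => ?_)
    have hc := ComodSub.restr_coact_coe (inferInstance : HopfRep.Comod k A A) U hU ⟨f, hsU hf⟩
    rw [ComodLib.coact_eq_orbit b, map_sum] at hc
    have h := congrArg (fun z => TensorProduct.lid k A ((Coalgebra.counit (R := k)).rTensor A z)) hc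
    simp only [LinearMap.rTensor_tmul] at h
    rw [show HopfRep.Comod.coact (k := k) (A := A) f = Coalgebra.comul (R := k) f from rfl,
      Coalgebra.rTensor_counit_comul] at h
    simp only [map_sum, LinearMap.rTensor_tmul, TensorProduct.lid_tmul, one_smul] at h
    rw [← h]
    refine sum_mem fun x _ => Subalgebra.smul_mem _ ?_ _
    unfold ComodLib.orbit
    exact sum_mem fun y _ => Subalgebra.smul_mem _ (Algebra.subset_adjoin (Set.mem_range_self (x, y))) _

end Groth.Agent.DynLib41
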